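import Cfsg.Agent.Lib.U62Aut.Model.Space

/-!
The action of the centralizer of the centre on an extraspecial group of order `2^9` modulo its centre, with the
quadratic form of the squares.
-/

set_option autoImplicit false
set_option linter.unusedSectionVars false
set_option linter.style.haveILetI false
set_option linter.unnecessarySeqFocus false
set_option maxRecDepth 20000

namespace Cfsg.Agent.U62Three.End

open Subgroup LargeExtra U62Rec.Model
open scoped commutatorElement

universe u

variable {G : Type u} [Group G] [Finite G]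

/-- The action on the group modulo its centre. -/
structure Act (Q : Subgroup G) (z : G) (V : Type u) [AddCommGroup V] extends Proj Q z V where
  xs : XSLocal Q z
  char : ∀ v : V, v + v = 0
  cardV : Nat.card V = 256
  /-- The action. -/
  ρ : ↥(centralizer ({z} : Set G)) →* AddMonoid.End V
  ρ_π : ∀ (g : ↥(centralizer ({z} : Set G))) (a : G), a ∈ Q → ρ g (π a) = π ((g : G) * a * (g : G)⁻¹)
  ρ_mem : ∀ g : ↥(centralizer ({z} : Set G)), (g : G) ∈ Q → ρ g = 1
  ρ_comm : ∀ g h : ↥(centralizer ({z} : Set G)), ρ g = 1 → ρ h = 1 → ⁅(g : G), (h : G)⁆ ∈ zpowers z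
  /-- The quadratic form. -/
  q : V → ZMod 2
  /-- Its polar. -/
  B : V → V → ZMod 2
  q_π : ∀ a ∈ Q, q (π a) = bit (a * a)
  hq : ∀ v w, q (v + w) = q v + q w + B v w
  hB : ∀ u v w, B (u + v) w = B u w + B v w
  hnd : ∀ v, v ≠ 0 → ∃ w, B v w ≠ 0
  q_inv : ∀ g v, q (ρ g v) = q v

set_option maxHeartbeats 800000 in
/-- The action exists. -/
theorem exists_act {Q : Subgroup G} {z : G} (hxs : XSLocal Q z) (hcard : Nat.card Q = 512) :
    ∃ (V : Type u) (_ : AddCommGroup V), Nonempty (Act Q z V) := by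
  classical
  set C := centralizer ({z} : Set G) with hC
  have hX := hxs.toXSub
  obtain ⟨V, iV, ⟨p⟩⟩ := exists_proj hX
  letI := iV
  have hzQ : z ∈ Q := hX.mem
  have hπz : p.π z = 0 := by
    have h1 : p.π 1 = 0 := by simpa using p.mul 1 (one_mem Q) 1 (one_mem Q)
    rw [← h1, eq_comm]
    exact (p.eq_iff 1 (one_mem Q) z hzQ).2 (Or.inr (one_mul z).symm)
  have hπ1 : p.π 1 = 0 := by simpa using p.mul 1 (one_mem Q) 1 (one_mem Q)
  have hconjQ : ∀ g ∈ C, ∀ a ∈ Q, g * a * g⁻¹ ∈ Q := fun g hg a ha => conj_mem (hxs.norm hg) ha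
  have hwd : ∀ g ∈ C, ∀ a ∈ Q, ∀ b ∈ Q, p.π a = p.π b → p.π (g * a * g⁻¹) = p.π (g * b * g⁻¹) := by
    intro g hg a ha b hb h
    refine (p.eq_iff _ (hconjQ g hg a ha) _ (hconjQ g hg b hb)).2 ?_
    rcases (p.eq_iff a ha b hb).1 h with rfl | rfl
    · exact Or.inl rfl
    · right
      have hgz : z * g⁻¹ = g⁻¹ * z := (Commute.inv_left (mem_centralizer_one.1 hg : Commute g z)).eq.symm
      simp only [mul_assoc, hgz]
  -- the action
  let sec : V → G := fun v => (p.surj v).choose
  have hsec : ∀ v, sec v ∈ Q ∧ p.π (sec v) = v := fun v => (p.surj v).choose_spec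
  have hact : ∀ g ∈ C, ∀ a ∈ Q, p.π (g * sec (p.π a) * g⁻¹) = p.π (g * a * g⁻¹) := fun g hg a ha =>
    hwd g hg _ (hsec _).1 a ha (hsec _).2
  let act : ↥C →* AddMonoid.End V :=
    { toFun := fun g => AddMonoidHom.mk' (fun v => p.π (g * sec v * (g : G)⁻¹)) fun v w => by
        obtain ⟨a, ha, rfl⟩ := p.surj v
        obtain ⟨b, hb, rfl⟩ := p.surj w
        rw [← p.mul a ha b hb, hact g g.2 _ (mul_mem ha hb), hact g g.2 a ha, hact g g.2 b hb,
          ← p.mul _ (hconjQ g g.2 a ha) _ (hconjQ g g.2 b hb)]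
        congr 1
        group
      map_one' := DFunLike.ext _ _ fun v => by
        show p.π (((1 : C) : G) * sec v * ((1 : C) : G)⁻¹) = v
        simp [(hsec v).2]
      map_mul' := fun g h => DFunLike.ext _ _ fun v => by
        show p.π (((g * h : C) : G) * sec v * ((g * h : C) : G)⁻¹) =
          p.π ((g : G) * sec (p.π ((h : G) * sec v * (h : G)⁻¹)) * (g : G)⁻¹)
        rw [hact g g.2 _ (hconjQ h h.2 _ (hsec v).1), coe_mul]
        congr 1
        group }
  have act_π : ∀ (g : C) (a : G), a ∈ Q → act g (p.π a) = p.π ((g : G) * a * (g : G)⁻¹) :=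
    fun g a ha => hact g g.2 a ha
  have hker : ∀ g : C, (g : G) ∈ Q → act g = 1 := fun g hgQ => by
    refine DFunLike.ext _ _ fun v => ?_
    obtain ⟨a, ha, rfl⟩ := p.surj v
    rw [act_π g a ha]
    show p.π ((g : G) * a * (g : G)⁻¹) = p.π a
    exact (p.eq_iff _ (hconjQ g g.2 a ha) a ha).2 (by
      rcases hX.conj_cases hgQ ha with h | h <;> rw [h]
      · exact Or.inl rfl
      · right; rw [mul_assoc, hX.sq, mul_one])
  have hVc : Nat.card V = 256 := by
    have hf : ∀ v : V, {a : Q | p.π (a : G) = v}.ncard = 2 := fun v => by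
      obtain ⟨a, ha, rfl⟩ := p.surj v
      have : {b : Q | p.π (b : G) = p.π a} = {⟨a, ha⟩, ⟨a * z, mul_mem ha hzQ⟩} := by
        ext b
        simp only [Set.mem_ofPred_eq, Set.mem_insert_iff, Set.mem_singleton_iff, Subtype.ext_iff]
        rw [eq_comm, p.eq_iff a ha b b.2]
      rw [this, Set.ncard_pair fun h => hX.ne_mul_z a (congrArg Subtype.val h)]
    haveI : Finite V := Finite.of_surjective (fun a : Q => p.π (a : G))
      fun v => (p.surj v).elim fun a h => ⟨⟨a, h.1⟩, h.2⟩
    haveI := Fintype.ofFinite V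
    haveI := Fintype.ofFinite Q
    have := Finset.card_eq_sum_card_fiberwise (f := fun a : Q => p.π (a : G))
      (s := (Finset.univ : Finset Q)) (t := (Finset.univ : Finset V)) fun _ _ => Finset.mem_univ _
    have hf' : ∀ v : V, (Finset.univ.filter fun a : Q => p.π (a : G) = v).card = 2 := fun v => by
      rw [← Set.ncard_coe_finset]
      exact (congrArg Set.ncard (by ext x; simp)).trans (hf v)
    simp only [hf', Finset.sum_const, smul_eq_mul, Finset.card_univ, ← Nat.card_eq_fintype_card, hcard] at this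
    omega
  have hchar : ∀ v : V, v + v = 0 := fun v => by
    obtain ⟨a, ha, rfl⟩ := p.surj v
    rw [← p.mul a ha a ha]
    rcases hX.sq_cases ha with h | h <;> rw [h]
    exacts [hπ1, hπz]
  haveI : Finite V := Nat.finite_of_card_ne_zero (by rw [hVc]; norm_num)
  have hsign : ∀ g : C, act g = 1 → ∀ a ∈ Q, ∃ ε, (ε = 1 ∨ ε = z) ∧ (g : G) * a * (g : G)⁻¹ = a * ε := fun g h1 a ha => by
    have h2 := act_π g a ha
    rw [h1] at h2
    rcases (p.eq_iff a ha _ (hconjQ g g.2 a ha)).1 h2 with h | h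
    · exact ⟨1, Or.inl rfl, by rw [mul_one]; exact h⟩
    · exact ⟨z, Or.inr rfl, h⟩
  have hεc : ∀ (g : C) (ε : G), ε = 1 ∨ ε = z → (g : G) * ε * (g : G)⁻¹ = ε := fun g ε hε => by
    rcases hε with rfl | rfl
    · group
    · rw [mem_centralizer_one.1 g.2, mul_inv_cancel_right]
  have habel : ∀ g h : C, act g = 1 → act h = 1 → ⁅(g : G), (h : G)⁆ ∈ zpowers z := by
    intro g h hg hh
    refine hxs.cent (mem_centralizer_iff.2 fun f hfQ => ?_)
    obtain ⟨a, ha, e1⟩ := hsign g hg f hfQ
    obtain ⟨b, hb, e2⟩ := hsign h hh f hfQ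
    have hab : a * b = b * a := by
      rcases ha with rfl | rfl <;> rcases hb with rfl | rfl <;> simp
    have k1 : (g : G) * h * f * ((g : G) * h)⁻¹ = (f : G) * a * b := by
      calc (g : G) * h * f * ((g : G) * h)⁻¹ = g * ((h : G) * f * (h : G)⁻¹) * (g : G)⁻¹ := by group
        _ = g * f * (g : G)⁻¹ * (g * b * (g : G)⁻¹) := by rw [e2]; group
        _ = f * a * b := by rw [e1, hεc g b hb]
    have k2 : (h : G) * g * f * ((h : G) * g)⁻¹ = (f : G) * a * b := by
      calc (h : G) * g * f * ((h : G) * g)⁻¹ = h * ((g : G) * f * (g : G)⁻¹) * (h : G)⁻¹ := by group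
        _ = h * f * (h : G)⁻¹ * (h * a * (h : G)⁻¹) := by rw [e1]; group
        _ = f * a * b := by rw [e2, hεc h a ha, mul_assoc, ← hab, mul_assoc]
    refine (mul_inv_eq_iff_eq_mul.1 (?_ : ⁅(g : G), (h : G)⁆ * f * ⁅(g : G), (h : G)⁆⁻¹ = f)).symm
    calc ⁅(g : G), (h : G)⁆ * f * ⁅(g : G), (h : G)⁆⁻¹
        = ((g : G) * h) * (((h : G) * g)⁻¹ * f * ((h : G) * g)) * ((g : G) * h)⁻¹ := by
          rw [commutatorElement_def]; group
      _ = f := by
          rw [show ((h : G) * g)⁻¹ * f * ((h : G) * g) = ((g : G) * h)⁻¹ * f * ((g : G) * h) from ?_]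
          · group
          calc ((h : G) * g)⁻¹ * f * ((h : G) * g)
              = ((h : G) * g)⁻¹ * (((h : G) * g * f * ((h : G) * g)⁻¹) * (a * b)⁻¹) * ((h : G) * g) := by
                rw [k2]; group
            _ = f * (((h : G) * g)⁻¹ * (a * b)⁻¹ * ((h : G) * g)) := by group
            _ = f * (a * b)⁻¹ := by
                congr 1
                have hc1 : Commute ((h : G) * g) z :=
                  (show Commute (h : G) z from mem_centralizer_one.1 h.2).mul_left (mem_centralizer_one.1 g.2)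
                have hc2 : Commute ((h : G) * g) (a * b)⁻¹ := by
                  refine Commute.inv_right ?_
                  rcases ha with rfl | rfl <;> rcases hb with rfl | rfl
                  exacts [(Commute.one_right _).mul_right (Commute.one_right _), (Commute.one_right _).mul_right hc1,
                    hc1.mul_right (Commute.one_right _), hc1.mul_right hc1]
                rw [mul_assoc, ← hc2.eq, inv_mul_cancel_left]
            _ = ((g : G) * h)⁻¹ * f * ((g : G) * h) := by
                have hc1 : Commute ((g : G) * h) z :=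
                  (show Commute (g : G) z from mem_centralizer_one.1 g.2).mul_left (mem_centralizer_one.1 h.2)
                have hc2 : Commute ((g : G) * h) (a * b)⁻¹ := by
                  refine Commute.inv_right ?_
                  rcases ha with rfl | rfl <;> rcases hb with rfl | rfl
                  exacts [(Commute.one_right _).mul_right (Commute.one_right _), (Commute.one_right _).mul_right hc1,
                    hc1.mul_right (Commute.one_right _), hc1.mul_right hc1]
                symm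
                calc ((g : G) * h)⁻¹ * f * ((g : G) * h)
                    = ((g : G) * h)⁻¹ * (((g : G) * h * f * ((g : G) * h)⁻¹) * (a * b)⁻¹) * ((g : G) * h) := by
                      rw [k1]; group
                  _ = f * (((g : G) * h)⁻¹ * (a * b)⁻¹ * ((g : G) * h)) := by group
                  _ = f * (a * b)⁻¹ := by rw [mul_assoc, ← hc2.eq, inv_mul_cancel_left]
  -- the form
  let q : V → ZMod 2 := fun v => bit (sec v * sec v)
  let B : V → V → ZMod 2 := fun v w => bit ⁅sec v, sec w⁆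
  have q_π : ∀ a ∈ Q, q (p.π a) = bit (a * a) := fun a ha => by
    show bit (sec (p.π a) * sec (p.π a)) = _
    rcases (p.eq_iff a ha _ (hsec _).1).1 (hsec _).2.symm with h | h <;> rw [h]
    have : a * z * (a * z) = a * a := by
      rw [mul_assoc, ← mul_assoc z, ← hX.comm ha, mul_assoc a z z, hX.sq, mul_one]
    rw [this]
  have B_π : ∀ a ∈ Q, ∀ b ∈ Q, B (p.π a) (p.π b) = bit ⁅a, b⁆ := fun a ha b hb => by
    show bit ⁅sec (p.π a), sec (p.π b)⁆ = _
    have hza : ∀ {x : G}, x ∈ Q → z * x = x * z := fun hx => (hX.comm hx).symm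
    have l1 : ∀ x ∈ Q, ∀ y ∈ Q, ⁅x * z, y⁆ = ⁅x, y⁆ := fun x hx y hy => by
      have e1 : z * y * z⁻¹ = y := by rw [hza hy, mul_inv_cancel_right]
      rw [commutatorElement_def, commutatorElement_def,
        show x * z * y * (x * z)⁻¹ * y⁻¹ = x * (z * y * z⁻¹) * x⁻¹ * y⁻¹ from by group, e1]
    have l2 : ∀ x ∈ Q, ∀ y ∈ Q, ⁅x, y * z⁆ = ⁅x, y⁆ := fun x hx y hy => by
      rw [← commutatorElement_inv, l1 y hy x hx, commutatorElement_inv]
    rcases (p.eq_iff a ha _ (hsec _).1).1 (hsec _).2.symm with h | h <;>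
      rcases (p.eq_iff b hb _ (hsec _).1).1 (hsec _).2.symm with h' | h' <;> rw [h, h']
    · rw [l2 a ha b hb]
    · rw [l1 a ha b hb]
    · rw [l1 a ha _ (mul_mem hb hzQ), l2 a ha b hb]
  have hcz : ∀ {c : G}, c = 1 ∨ c = z → ∀ x ∈ Q, c * x = x * c := fun hc x hx => by
    rcases hc with rfl | rfl
    · simp
    · exact (hX.comm hx).symm
  have hq : ∀ v w, q (v + w) = q v + q w + B v w := by
    intro v w
    obtain ⟨a, ha, rfl⟩ := p.surj v
    obtain ⟨b, hb, rfl⟩ := p.surj w
    rw [← p.mul a ha b hb, q_π _ (mul_mem ha hb), q_π a ha, q_π b hb, B_π a ha b hb]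
    have hc := hX.comm_cases hb ha
    have e1 : a * b * (a * b) = ⁅b, a⁆ * (a * a) * (b * b) := by
      rw [show a * b * (a * b) = a * (⁅b, a⁆ * a * b) * b from by rw [commutatorElement_def]; group,
        show a * (⁅b, a⁆ * a * b) * b = a * ⁅b, a⁆ * a * (b * b) from by group, ← hcz hc a ha]
      group
    have e2 : bit ⁅b, a⁆ = bit ⁅a, b⁆ := by
      rw [← commutatorElement_inv a b]
      rcases hX.comm_cases ha hb with h | h <;> rw [h]
      · rw [inv_one]
      · rw [hX.inv_eq]
    have hsa := hX.sq_cases ha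
    have hsb := hX.sq_cases hb
    rw [e1, bit_mul hX.sq hX.ne_one ?_ hsb, bit_mul hX.sq hX.ne_one hc hsa, e2]
    · abel
    · rcases hc with h | h <;> rcases hsa with h' | h' <;> rw [h, h'] <;> simp [hX.sq]
  have hB : ∀ u v w, B (u + v) w = B u w + B v w := by
    intro u v w
    obtain ⟨a, ha, rfl⟩ := p.surj u
    obtain ⟨b, hb, rfl⟩ := p.surj v
    obtain ⟨c, hc, rfl⟩ := p.surj w
    rw [← p.mul a ha b hb, B_π _ (mul_mem ha hb) c hc, B_π a ha c hc, B_π b hb c hc,
      show ⁅a * b, c⁆ = a * ⁅b, c⁆ * a⁻¹ * ⁅a, c⁆ from by simp only [commutatorElement_def]; group,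
      ← hcz (hX.comm_cases hb hc) a ha, mul_inv_cancel_right,
      bit_mul hX.sq hX.ne_one (hX.comm_cases hb hc) (hX.comm_cases ha hc), add_comm]
  have hnd : ∀ v, v ≠ 0 → ∃ w, B v w ≠ 0 := by
    intro v hv
    obtain ⟨a, ha, rfl⟩ := p.surj v
    obtain ⟨c, hc, hconj⟩ := hX.exists_conj ha (fun h => hv (h ▸ hπ1)) (fun h => hv (h ▸ hπz))
    refine ⟨p.π c, ?_⟩
    rw [B_π a ha c hc]
    intro h
    have h1 := commutatorElement_eq_one_iff_mul_comm.1 (bit_eq_zero.1 h)
    rw [← h1, mul_inv_cancel_right] at hconj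
    exact hX.ne_mul_z a hconj
  refine ⟨V, iV, ⟨{
    toProj := p, xs := hxs, char := hchar, cardV := hVc, ρ := act, ρ_π := act_π, ρ_mem := hker, ρ_comm := habel,
    q := q, B := B, q_π := q_π, hq := hq, hB := hB, hnd := hnd, q_inv := fun g v => ?_ }⟩⟩
  obtain ⟨a, ha, rfl⟩ := p.surj v
  rw [act_π g a ha, q_π _ (hconjQ g g.2 a ha), q_π a ha,
    show (g : G) * a * (g : G)⁻¹ * ((g : G) * a * (g : G)⁻¹) = (g : G) * (a * a) * (g : G)⁻¹ from by group]
  rcases hX.sq_cases ha with h | h <;> rw [h]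
  · simp
  · rw [mem_centralizer_one.1 g.2, mul_inv_cancel_right]

end Cfsg.Agent.U62Three.End
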