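import Cfsg.Agent.Lib.U62Three.End.Vectors

/-!
The local hypotheses from coordinates with scalars.
-/

set_option autoImplicit false
set_option linter.unusedSectionVars false
set_option linter.style.haveILetI false
set_option maxRecDepth 20000

namespace Cfsg.Agent.U62Three.End

open Subgroup LargeExtra U62Rec.Model Cfsg.Agent.PermCert U62Aut
open scoped commutatorElement

namespace CrdT

variable {G : Type*} [Group G] [Finite G] {z : G} (K : CrdT z)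

include K

/-- Either every semilinear map is realised or none outside the linear group. -/
theorem full_or_inner : (∀ σ : Agrp, ∃ g, Commute z g ∧ K.act g = σ.1) ∨
    ∀ g, Commute z g → (K.prj g).1 ∈ Lgrp := by
  refine or_iff_not_imp_right.2 fun h σ => ?_
  push Not at h
  obtain ⟨g, hg, hout⟩ := h
  obtain ⟨h₀, hh₀, e₀⟩ := K.exact g hg _ _ (K.act_eq hg)
  by_cases hσ : σ.1 ∈ Lgrp
  · exact K.inner σ.1 hσ
  have hmul : (K.prj g).1⁻¹ * σ.1 ∈ Lgrp :=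
    outer_mul (inv_mem (K.prj g).2) σ.2 (fun e => hout (by simpa using inv_mem e)) hσ
  obtain ⟨k, hk, ek⟩ := K.inner _ hmul
  exact ⟨h₀ * k, hh₀.mul_right hk, by rw [K.act_mul _ _ hh₀ hk, e₀, ek, mul_inv_cancel_left]⟩

theorem prj_lift {σ : Agrp} {g : G} (hg : Commute z g) (h : K.act g = σ.1) : K.perm g = aHom σ := by
  rw [perm, K.prj_exact hg h]

theorem lift_fix {s : G} (hs : s ∈ coreAt z) (h1 : s ≠ 1) (h2 : s ≠ z) {σ : Equiv.Perm Vec} {g : G}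
    (hg : Commute z g) (hgσ : K.act g = σ) (hσ : σ (K.nv s) = K.nv s) :
    ∃ h ∈ centralizer ({z, s} : Set G), K.act h = σ := by
  have key : ∀ h : G, Commute z h → h * s * h⁻¹ = s → h ∈ centralizer ({z, s} : Set G) := fun h hh e => by
    refine mem_centralizer_iff.2 fun y hy => ?_
    rcases hy with rfl | rfl
    · exact hh.eq
    · exact (mul_inv_eq_iff_eq_mul.1 e).symm
  rcases K.conj_z hg hs (hgσ ▸ hσ) with e | e
  · exact ⟨g, key g hg e, hgσ⟩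
  · obtain ⟨q, hq, hqe⟩ := K.xs.toXSub.exists_conj hs h1 h2
    refine ⟨g * q, key _ (hg.mul_right (K.comm_z hq)) ?_, ?_⟩
    · rw [show g * q * s * (g * q)⁻¹ = g * (q * s * q⁻¹) * g⁻¹ from by group, hqe,
        show g * (s * z) * g⁻¹ = g * s * g⁻¹ * (g * z * g⁻¹) from by group, e, ← hg.eq, mul_inv_cancel_right,
        mul_assoc, K.sq, mul_one]
    · rw [K.act_mul g q hg (K.comm_z hq), (K.act_one q (K.comm_z hq)).2 hq, mul_one, hgσ]

omit K in
theorem comm_le {N : Subgroup G} (hN : N ≤ centralizer ({z} : Set G)) {a : G} (ha : a ∈ N) : Commute z a :=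
  (mem_centralizer_one.1 (hN ha)).symm

/-- The image of a subgroup of the centralizer among the semilinear maps. -/
noncomputable def imgHom (N : Subgroup G) (hN : N ≤ centralizer ({z} : Set G)) : N →* Agrp :=
  MonoidHom.mk' (fun a => K.prj a) fun a b => K.prj_mul (comm_le hN a.2) (comm_le hN b.2)

theorem perm_image (N : Subgroup G) (hN : N ≤ centralizer ({z} : Set G)) :
    (K.perm '' (N : Set G)) = (((K.imgHom N hN).range.map aHom : Subgroup (Equiv.Perm Pt)) : Set (Equiv.Perm Pt)) := by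
  ext x
  constructor
  · rintro ⟨a, ha, rfl⟩
    exact ⟨K.prj a, ⟨⟨a, ha⟩, rfl⟩, rfl⟩
  · rintro ⟨_, ⟨a, rfl⟩, rfl⟩
    exact ⟨a, a.2, rfl⟩

theorem perm_ncard (N : Subgroup G) (hN : N ≤ centralizer ({z} : Set G)) :
    (K.perm '' (N : Set G)).ncard = Nat.card ↥((K.imgHom N hN).range.map aHom) := by
  rw [K.perm_image N hN, ← Nat.card_coe_set_eq]
  rfl

theorem perm_sq {t : G} (ht : Commute z t) (h : t * t ∈ coreAt z) : K.perm t * K.perm t = 1 := by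
  rw [perm, ← map_mul, K.prj_sq ht h, map_one]

theorem perm_ne_one {t : G} (ht : Commute z t) (h : t * t ∈ coreAt z) (htJ : t ∉ coreAt z) : K.perm t ≠ 1 :=
  fun e => htJ (K.mem_of_two ht (K.perm_one_iff.1 e) (k := 1) (by rwa [pow_one, pow_two]))

theorem lin_std {t : G} (ht : Commute z t) (ht2 : t * t = 1) (htJ : t ∉ coreAt z) (hne : ∀ p, K.perm t ≠ tvP p) :
    (GoodP (K.perm t) ∧ ∃ γ ∈ Lgrp, (K.prj t).1 = γ * s0V * γ⁻¹) ∨
      ∃ k : Fin 2, (GoodP (K.perm t) ↔ (k : ℕ) = 0) ∧ ∃ γ ∈ Lgrp, (K.prj t).1 = γ * repV' k * γ⁻¹ := by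
  have h2 : K.prj t * K.prj t = 1 := K.prj_sq ht (ht2 ▸ one_mem _)
  have h1 : K.prj t ≠ 1 := fun h => K.perm_ne_one ht (ht2 ▸ one_mem _) htJ (by rw [perm, h, map_one])
  rcases inv_cases (aHom_mem (K.prj t)) (by rw [← map_mul, h2, map_one])
      (fun e => h1 (aHom_injective (e.trans (map_one aHom).symm))) with ⟨p, e⟩ | ⟨p, q, hadj, e⟩ | ⟨k, hk, hc⟩
  · exact absurd e (hne p)
  · have hin : (K.prj t).1 ∈ Lgrp := aHom_inner (e ▸ mul_mem (tvP_mem p) (tvP_mem q))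
    refine Or.inl ⟨Or.inl (by rw [perm, e]; exact prod_nfix hadj), ?_⟩
    refine exists_std (σ := ⟨(K.prj t).1, hin⟩) (Subtype.ext (congrArg Subtype.val h2 :))
      (fun h => h1 (Subtype.ext (congrArg Subtype.val h :))) fun p' => ?_
    rw [← aHom_lin hin]
    exact hne p'
  · refine Or.inr ⟨⟨k, hk⟩, ?_, exists_rep (σ := K.prj t) (k := ⟨k, hk⟩) hc⟩
    rw [GoodP, perm, rep_nfix hk hc]
    interval_cases k <;> simp

/-- Coordinates in which an involution acts without scalar. -/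
theorem exists_straight {t : G} (ht : Commute z t) (ht2 : t * t = 1) :
    ∃ K' : CrdT z, (∀ g, Commute z g → K'.perm g = K.perm g) ∧ K'.act t = (K'.prj t).1 := by
  obtain ⟨e, he, h1, h⟩ := K.exists_shift (zpowers t) (fun a ha => by
      obtain ⟨n, rfl⟩ := mem_zpowers_iff.1 ha
      exact ht.zpow_right n)
    fun a ha => by
      obtain ⟨n, rfl⟩ := mem_zpowers_iff.1 ha
      rw [← (Commute.refl t).mul_zpow, ht2, one_zpow]
      exact one_mem _
  exact ⟨K.shift e he, fun g hg => K.shift_perm he h1 hg, h t (mem_zpowers t)⟩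

theorem adjust {t g : G} (ht : Commute z t) (hg : Commute z g) (ht2 : t * t = 1)
    (hc : Commute (K.perm g) (K.perm t)) :
    ∃ k : G, Commute z k ∧ K.perm k = 1 ∧ t * (g * k * t * (g * k)⁻¹) ∈ coreAt z := by
  obtain ⟨K', hp, hact⟩ := K.exists_straight ht ht2
  obtain ⟨h, hh, eh⟩ := K'.exact g hg _ _ (K'.act_eq hg)
  refine ⟨g⁻¹ * h, hg.inv_right.mul_right hh, ?_, ?_⟩
  · rw [← hp _ (hg.inv_right.mul_right hh), K'.perm_one_iff, K'.prj_mul hg.inv_right hh, K'.prj_inv hg,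
      K'.prj_exact hh eh, inv_mul_cancel]
  · rw [mul_inv_cancel_left]
    refine K'.act_comm_core (ht.mul_right ((hh.mul_right ht).mul_right hh.inv_right)) ?_
    have hc' : K'.prj g * K'.prj t = K'.prj t * K'.prj g := by
      rw [← hp g hg, ← hp t ht] at hc
      exact aHom_injective (by rw [map_mul, map_mul]; exact hc.eq)
    have hc'' : (K'.prj g).1 * (K'.prj t).1 = (K'.prj t).1 * (K'.prj g).1 := congrArg Subtype.val hc'
    rw [K'.act_mul _ _ ht ((hh.mul_right ht).mul_right hh.inv_right), K'.act_conj' hh ht, eh, hact,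
      hc'', mul_assoc (K'.prj t).1, mul_inv_cancel, mul_one, ← coe_mul,
      K'.prj_sq ht (ht2 ▸ one_mem _), coe_one]

theorem stab_elem {p : Pt} {s : G} (hs : s ∈ K.rad p) (h1 : s ≠ 1) (hz : s ≠ z) {N : Subgroup G}
    (hN : N ≤ centralizer {z, s}) (hnor : centralizer {z, s} ≤ normalizer (N : Set G))
    (hsq : ∀ a ∈ N, a * a ∈ coreAt z) :
    (K.perm '' (N : Set G)).ncard ≤ 16 ∧ ((K.perm '' (N : Set G)).ncard ≤ 8 →
      ∀ a ∈ N, ∀ v ∈ K.rad p, a * v * a⁻¹ = v ∨ a * v * a⁻¹ = v * z) := by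
  have hle : N ≤ centralizer ({z} : Set G) := hN.trans (centralizer_le (by simp))
  obtain ⟨e, he, he1, hact⟩ := K.exists_shift N (fun a ha => comm_le hle ha) hsq
  obtain ⟨K', hK'⟩ : ∃ K', K' = K.shift e he := ⟨_, rfl⟩
  rw [← hK'] at hact
  have himage : K.perm '' (N : Set G) = K'.perm '' (N : Set G) :=
    Set.image_congr fun a ha => (hK' ▸ K.shift_perm he he1 (comm_le hle ha)).symm
  rw [himage, ← K.shift_rad he he1 p, ← hK']
  rw [← K.shift_rad he he1 p, ← hK'] at hs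
  have hsing : Sing (K'.nv s) := (inLine_sing hs.2 (K'.rad_nv_ne hs.1 h1 hz)).1
  have hfixN : ∀ a ∈ N, (K'.prj a).1 (K'.nv s) = K'.nv s := fun a ha => by
    rw [← hact a ha]
    exact K'.act_fix (comm_le hle ha) hs.1 (show Commute s a from mem_centralizer_iff.1 (hN ha) s (by simp))
  have hinv : ∀ (σ : Equiv.Perm Vec) (g : G), Commute z g → K'.act g = σ → σ (K'.nv s) = K'.nv s →
      ∀ b ∈ (K'.imgHom N hle).range.map Agrp.subtype, σ * b * σ⁻¹ ∈ (K'.imgHom N hle).range.map Agrp.subtype := by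
    rintro σ g hg hgσ hfix _ ⟨_, ⟨a, rfl⟩, rfl⟩
    obtain ⟨h, hh, e'⟩ := K'.lift_fix hs.1 h1 hz hg hgσ hfix
    have hhz : Commute z h := (mem_centralizer_iff.1 hh z (by simp) : z * h = h * z)
    have hm : h * a * h⁻¹ ∈ N := (mem_normalizer_iff.1 (hnor hh) a).1 a.2
    refine ⟨K'.prj (h * a * h⁻¹), ⟨⟨_, hm⟩, rfl⟩, ?_⟩
    show (K'.prj (h * a * h⁻¹)).1 = σ * (K'.prj a).1 * σ⁻¹
    rw [← hact _ hm, ← hact a a.2, K'.act_conj' hhz (comm_le hle a.2), e']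
  have hsq' : ∀ b ∈ (K'.imgHom N hle).range.map Agrp.subtype, b * b = 1 := by
    rintro _ ⟨_, ⟨a, rfl⟩, rfl⟩
    exact congrArg Subtype.val (K'.prj_sq (comm_le hle a.2) (hsq a a.2))
  have ec : (K'.perm '' (N : Set G)).ncard = Nat.card ↥((K'.imgHom N hle).range.map Agrp.subtype) := by
    rw [K'.perm_ncard N hle, Subgroup.card_map_of_injective aHom_injective,
      Subgroup.card_map_of_injective (f := Agrp.subtype) Agrp.subtype_injective]
  have hall : (K'.perm '' (N : Set G)).ncard ≤ 16 ∧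
      ((K'.perm '' (N : Set G)).ncard ≤ 8 → ∀ a ∈ N, (K'.prj a).1 ∈ Lgrp) := by
    rw [ec]
    rcases K'.full_or_inner with hfull | hin
    · obtain ⟨h16, h8⟩ := stab_elemA hsing (N := (K'.imgHom N hle).range.map Agrp.subtype)
        (by rintro _ ⟨_, ⟨a, rfl⟩, rfl⟩; exact ⟨(K'.prj a).2, hfixN a a.2⟩) hsq'
        fun σ hσ hfix => by
          obtain ⟨g, hg, eg⟩ := hfull ⟨σ, hσ⟩
          exact hinv σ g hg eg hfix
      exact ⟨h16, fun h a ha => h8 h ⟨K'.prj a, ⟨⟨a, ha⟩, rfl⟩, rfl⟩⟩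
    · refine ⟨(stab_elem8 hsing (N := (K'.imgHom N hle).range.map Agrp.subtype)
        (by rintro _ ⟨_, ⟨a, rfl⟩, rfl⟩; exact ⟨hin _ (comm_le hle a.2), hfixN a a.2⟩) hsq'
        fun σ hσ hfix => ?_).trans (by norm_num), fun _ a ha => hin a (comm_le hle ha)⟩
      obtain ⟨g, hg, eg⟩ := K'.inner σ hσ
      exact hinv σ g hg eg hfix
  refine ⟨hall.1, fun h8 a ha v hv => K'.conj_z (comm_le hle ha) hv.1 ?_⟩
  rw [hact a ha]
  exact inLine_fixed (g := ⟨(K'.prj a).1, hall.2 h8 a ha⟩) hs.2 (K'.rad_nv_ne hs.1 h1 hz) (hfixN a ha) hv.2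

theorem stab_line {s : G} (hs : s ∈ coreAt z) (h1 : s ≠ 1) (hz : s ≠ z) {W : Subgroup G} (hW : W ≤ coreAt z)
    (hnor : centralizer {z, s} ≤ normalizer (W : Set G)) :
    ∀ σ ∈ Lgrp, σ (K.nv s) = K.nv s → ∀ v ∈ K.nv '' (W : Set G), σ v ∈ K.nv '' (W : Set G) := by
  rintro σ hσ hfix _ ⟨a, ha, rfl⟩
  obtain ⟨g₀, hg₀, e₀⟩ := K.inner σ hσ
  obtain ⟨g, hg, e⟩ := K.lift_fix hs h1 hz hg₀ e₀ hfix
  have hgz : Commute z g := (mem_centralizer_iff.1 hg z (by simp) : z * g = g * z)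
  exact ⟨g * a * g⁻¹, (mem_normalizer_iff.1 (hnor hg) a).1 ha, by rw [K.act_conj g hgz a (hW ha), e]⟩

theorem stab_gap {p : Pt} {s : G} (hs : s ∈ K.rad p) (h1 : s ≠ 1) (hz : s ≠ z) {W : Subgroup G}
    (hW : W ≤ coreAt z) (hWsq : ∀ a ∈ W, a * a = 1) (hzW : z ∈ W) (hsW : s ∈ W)
    (hnor : centralizer {z, s} ≤ normalizer (W : Set G)) : Nat.card W ≠ 16 := by
  intro h16
  have hn := K.rad_nv_ne hs.1 h1 hz
  have hsing : Sing (K.nv s) := (inLine_sing hs.2 hn).1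
  have e : (W : Set G) = {a | a ∈ coreAt z ∧ K.nv a ∈ K.nv '' (W : Set G)} := by
    ext a
    refine ⟨fun ha => ⟨hW ha, a, ha, rfl⟩, fun ⟨ha, w, hw, e⟩ => ?_⟩
    rcases (K.nv_eq w (hW hw) a ha).1 e with rfl | rfl
    exacts [hw, mul_mem hw hzW]
  have h8 : (K.nv '' (W : Set G)).ncard = 8 := by
    have := K.pre_ncard (K.nv '' (W : Set G))
    rw [← e, ← Nat.card_coe_set_eq] at this
    have h16' : Nat.card ((W : Set G) : Type _) = 16 := h16
    omega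
  obtain ⟨_, ⟨x, hx, rfl⟩, hxn⟩ := Set.exists_mem_notMem_of_ncard_lt_ncard
    (s := ({zeroV, K.nv s} : Set Vec)) (t := K.nv '' (W : Set G))
    (by rw [h8]; exact lt_of_le_of_lt (Set.ncard_insert_le _ _) (by rw [Set.ncard_singleton]; norm_num))
    (Set.toFinite _)
  simp only [Set.mem_insert_iff, Set.mem_singleton_iff, not_or] at hxn
  have hadd : ∀ a ∈ K.nv '' (W : Set G), ∀ b ∈ K.nv '' (W : Set G), xorV a b ∈ K.nv '' (W : Set G) := by
    rintro _ ⟨a, ha, rfl⟩ _ ⟨b, hb, rfl⟩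
    exact ⟨a * b, mul_mem ha hb, K.nv_mul a (hW ha) b (hW hb)⟩
  have hinv := K.stab_line hs.1 h1 hz hW hnor
  have hq : ∀ v ∈ K.nv '' (W : Set G), q0 v = 0 := by
    rintro _ ⟨a, ha, rfl⟩
    exact (K.nv_sq a (hW ha)).1 (hWsq a ha)
  have hom := close_line hsing hq hadd hinv ⟨s, hsW, rfl⟩ ⟨x, hx, rfl⟩ (fun h => hxn.1 (Fin.ext h)) hxn.2
  exact gap_line hsing hq hadd hinv ⟨s, hsW, rfl⟩ hom h8

theorem stab_closure {p : Pt} {s : G} (hs : s ∈ K.rad p) (h1 : s ≠ 1) (hz : s ≠ z) {W : Subgroup G}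
    (hW : W ≤ coreAt z) (hWsq : ∀ a ∈ W, a * a = 1) (hzW : z ∈ W) (hsW : s ∈ W) (h8 : 8 ≤ Nat.card W)
    (hnor : centralizer {z, s} ≤ normalizer (W : Set G)) : K.rad p ≤ W := by
  have hn := K.rad_nv_ne hs.1 h1 hz
  have hsing : Sing (K.nv s) := (inLine_sing hs.2 hn).1
  obtain ⟨x, hx, hx0, hxn⟩ : ∃ x ∈ W, K.nv x ≠ zeroV ∧ K.nv x ≠ K.nv s := by
    by_contra hcon
    push Not at hcon
    have hsub : (W : Set G) ⊆ {a | a ∈ coreAt z ∧ K.nv a ∈ ({zeroV, K.nv s} : Set Vec)} := fun a ha =>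
      ⟨hW ha, (em (K.nv a = zeroV)).elim Or.inl fun h => Or.inr (hcon a ha h)⟩
    have := Set.ncard_le_ncard hsub (Set.toFinite _)
    rw [K.pre_ncard, Set.ncard_pair (fun h => hn h.symm), ← Nat.card_coe_set_eq] at this
    have h8' : 8 ≤ Nat.card ((W : Set G) : Type _) := h8
    omega
  have hom : omV (K.nv s) ∈ K.nv '' (W : Set G) := by
    refine close_line hsing (W := K.nv '' (W : Set G)) ?_ ?_ (K.stab_line hs.1 h1 hz hW hnor) ⟨s, hsW, rfl⟩
      ⟨x, hx, rfl⟩ (fun h => hx0 (Fin.ext h)) hxn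
    · rintro _ ⟨a, ha, rfl⟩
      exact (K.nv_sq a (hW ha)).1 (hWsq a ha)
    · rintro _ ⟨a, ha, rfl⟩ _ ⟨b, hb, rfl⟩
      exact ⟨a * b, mul_mem ha hb, K.nv_mul a (hW ha) b (hW hb)⟩
  intro a ha
  have hall : ∀ v, InLine p v → v ∈ K.nv '' (W : Set G) := by
    have h0 : zeroV ∈ K.nv '' (W : Set G) := ⟨1, one_mem W, K.nv_one⟩
    obtain ⟨b, hb, eb⟩ := hom
    have h3 : omV (omV (K.nv s)) ∈ K.nv '' (W : Set G) := by
      refine ⟨s * b, mul_mem hsW hb, ?_⟩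
      rw [K.nv_mul s hs.1 b (hW hb), eb]
      apply xorV_eq_zero
      rw [show xorV (xorV (K.nv s) (omV (K.nv s))) (omV (omV (K.nv s))) =
        xorV (K.nv s) (xorV (omV (K.nv s)) (omV (omV (K.nv s)))) from Fin.ext (Nat.xor_assoc _ _ _)]
      exact (omega_facts _).2
    have hn' : K.nv s ∈ K.nv '' (W : Set G) := ⟨s, hsW, rfl⟩
    have hb' : omV (K.nv s) ∈ K.nv '' (W : Set G) := ⟨b, hb, eb⟩
    intro v hv
    have o3 := (omega_facts (repV p)).1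
    rcases hv with rfl | rfl | rfl | rfl
    · exact h0
    all_goals
      rcases hs.2 with e | e | e | e
      · exact absurd e hn
      all_goals
        rw [e] at hn' hb' h3
        try simp only [o3] at hn' hb' h3
        assumption
  obtain ⟨w, hw, e⟩ := hall _ ha.2
  rcases (K.nv_eq w (hW hw) a ha.1).1 e with rfl | rfl
  exacts [hw, mul_mem hw hzW]

theorem other_comm {t : G} (ht : Commute z t) (ht2 : t * t = 1) (htJ : t ∉ coreAt z)
    (hne : ∀ p, K.perm t ≠ tvP p) {a : G} (ha : a ∈ coreAt z) (hcomm : ⁅t, a⁆ ∈ zpowers z) :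
    (GoodP (K.perm t) → a * a = 1) ∧ ∃ b ∈ coreAt z, a = ⁅t, b⁆ ∨ a = ⁅t, b⁆ * z := by
  obtain ⟨K', hp, hact⟩ := K.exists_straight ht ht2
  rw [← hp t ht] at hne ⊢
  have hfx := (K'.comm_zpowers ht ha).1 hcomm
  rw [hact] at hfx
  have fin : ∀ y, xorV y ((K'.prj t).1 y) = K'.nv a → ∃ b ∈ coreAt z, a = ⁅t, b⁆ ∨ a = ⁅t, b⁆ * z := fun y hy => by
    obtain ⟨b, hb, rfl⟩ := K'.nv_surj y
    refine ⟨b, hb, ?_⟩
    rw [← hact, ← K'.nv_comm ht hb] at hy
    exact (K'.nv_eq _ (K'.comm_mem ht hb) a ha).1 hy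
  rcases K'.lin_std ht ht2 htJ hne with ⟨-, γ, hγ, hσ⟩ | ⟨k, hgood, γ, hγ, hσ⟩
  · obtain ⟨hq, y, hy⟩ := other_fix hγ hσ hfx
    exact ⟨fun _ => (K'.nv_sq a ha).2 hq, fin y hy⟩
  · obtain ⟨y, hy⟩ := rep_fix hγ hσ hfx
    refine ⟨fun hg => (K'.nv_sq a ha).2 ?_, fin y hy⟩
    obtain rfl : k = 0 := Fin.ext (hgood.1 hg)
    exact rep0_fix hγ hσ hfx

theorem other_card {t : G} (ht : Commute z t) (ht2 : t * t = 1) (htJ : t ∉ coreAt z)
    (hne : ∀ p, K.perm t ≠ tvP p) :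
    (GoodP (K.perm t) → 32 ≤ {a | a ∈ coreAt z ∧ ⁅t, a⁆ ∈ zpowers z ∧ a * a = 1}.ncard) ∧
      16 ≤ {a | a ∈ coreAt z ∧ ⁅t, a⁆ ∈ zpowers z ∧ a * a = 1}.ncard := by
  obtain ⟨K', hp, hact⟩ := K.exists_straight ht ht2
  rw [← hp t ht] at hne ⊢
  have e : {a | a ∈ coreAt z ∧ ⁅t, a⁆ ∈ zpowers z ∧ a * a = 1} =
      {a | a ∈ coreAt z ∧ K'.nv a ∈ {x : Vec | (K'.prj t).1 x = x ∧ q0 x = 0}} := by
    ext a
    refine and_congr_right fun ha => and_congr ?_ (K'.nv_sq a ha)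
    rw [K'.comm_zpowers ht ha, hact]
  rw [e, K'.pre_ncard]
  rcases K'.lin_std ht ht2 htJ hne with ⟨-, γ, hγ, hσ⟩ | ⟨k, hgood, γ, hγ, hσ⟩
  · have e2 : {x : Vec | (K'.prj t).1 x = x ∧ q0 x = 0} = {x : Vec | (K'.prj t).1 x = x} :=
      Set.ext fun x => and_iff_left_of_imp fun hx => (other_fix hγ hσ hx).1
    have := other_count hσ
    rw [e2]
    exact ⟨fun _ => by omega, by omega⟩
  · have := rep_count hγ hσ
    refine ⟨fun hg => ?_, ?_⟩
    · rw [if_pos (hgood.1 hg)] at this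
      omega
    · split_ifs at this <;> omega

theorem other_pair {t : G} (ht : Commute z t) (ht2 : t * t = 1) (htJ : t ∉ coreAt z)
    (hne : ∀ p, K.perm t ≠ tvP p) {W : Subgroup G} (hW : W ≤ coreAt z) (hzW : z ∈ W) (hWsq : ∀ x ∈ W, x * x = 1)
    (hx : ∃ x ∈ W, x ∉ zpowers z) (hbig : GoodP (K.perm t) ∨ 8 ≤ Nat.card W)
    (hWt : ∀ x ∈ W, ⁅t, x⁆ ∈ zpowers z)
    (hnor : ∀ g : G, Commute z g → t * (g * t * g⁻¹) ∈ coreAt z → g ∈ normalizer (W : Set G)) :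
    ∃ a ∈ coreAt z, ∃ b ∈ coreAt z, ⁅t, a⁆ ∈ W ∧ ⁅t, b⁆ ∈ W ∧ ⁅t, a⁆ ∉ zpowers z ∧ ⁅t, b⁆ ∉ zpowers z ∧
      ⁅t, a⁆ * ⁅t, b⁆ ∉ zpowers z ∧ Commute a ⁅t, b⁆ := by
  obtain ⟨K', hp, hact⟩ := K.exists_straight ht ht2
  rw [← hp t ht] at hne hbig
  obtain ⟨x, hxW, hxz⟩ := hx
  have hWnv : ∀ u, u ∈ coreAt z → K'.nv u ∈ K'.nv '' (W : Set G) → u ∈ W := fun u hu ⟨w, hw, e⟩ => by
    rcases (K'.nv_eq w (hW hw) u hu).1 e with rfl | rfl
    exacts [hw, mul_mem hw hzW]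
  have hadd : ∀ a ∈ K'.nv '' (W : Set G), ∀ b ∈ K'.nv '' (W : Set G), xorV a b ∈ K'.nv '' (W : Set G) := by
    rintro _ ⟨a, ha, rfl⟩ _ ⟨b, hb, rfl⟩; exact ⟨a * b, mul_mem ha hb, K'.nv_mul a (hW ha) b (hW hb)⟩
  have hfix : ∀ v ∈ K'.nv '' (W : Set G), (K'.prj t).1 v = v := by
    rintro _ ⟨a, ha, rfl⟩
    rw [← hact]
    exact (K'.comm_zpowers ht (hW ha)).1 (hWt a ha)
  have hinv : ∀ σ ∈ Lgrp, σ * (K'.prj t).1 = (K'.prj t).1 * σ → ∀ v ∈ K'.nv '' (W : Set G),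
      σ v ∈ K'.nv '' (W : Set G) := by
    rintro σ hσ hcomm _ ⟨a, ha, rfl⟩
    obtain ⟨g, hg, e⟩ := K'.inner σ hσ
    have hgt : t * (g * t * g⁻¹) ∈ coreAt z := by
      refine K'.act_comm_core (ht.mul_right ((hg.mul_right ht).mul_right hg.inv_right)) ?_
      rw [K'.act_mul _ _ ht ((hg.mul_right ht).mul_right hg.inv_right), K'.act_conj' hg ht, e, hact, hcomm,
        mul_assoc (K'.prj t).1, mul_inv_cancel, mul_one, ← coe_mul, K'.prj_sq ht (ht2 ▸ one_mem _), coe_one]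
    exact ⟨g * a * g⁻¹, (mem_normalizer_iff.1 (hnor g hg hgt) a).1 ha, by rw [K'.act_conj g hg a (hW ha), e]⟩
  have hx0 : ((K'.nv x : Vec) : ℕ) ≠ 0 := fun h => hxz ((K'.nv_zero (hW hxW)).1 (Fin.ext h))
  obtain ⟨a, b, ha, hb, ha0, hb0, hab, hpol⟩ : ∃ a b, xorV a ((K'.prj t).1 a) ∈ K'.nv '' (W : Set G) ∧
      xorV b ((K'.prj t).1 b) ∈ K'.nv '' (W : Set G) ∧ (xorV a ((K'.prj t).1 a) : ℕ) ≠ 0 ∧
      (xorV b ((K'.prj t).1 b) : ℕ) ≠ 0 ∧ xorV a ((K'.prj t).1 a) ≠ xorV b ((K'.prj t).1 b) ∧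
      polC a (xorV b ((K'.prj t).1 b)) = 0 := by
    rcases K'.lin_std ht ht2 htJ hne with ⟨-, γ, hγ, hσ⟩ | ⟨k, hgood, γ, hγ, hσ⟩
    · exact other_wit hγ hσ hadd hfix hinv (x := K'.nv x) ⟨x, hxW, rfl⟩ hx0
    · refine rep_wit hγ hσ hadd hfix ?_ hinv ⟨_, ⟨x, hxW, rfl⟩, hx0⟩ ?_
      · rintro _ ⟨a, ha, rfl⟩
        exact (K'.nv_sq a (hW ha)).1 (hWsq a ha)
      · rcases hbig with hg | h8
        · exact Or.inl (hgood.1 hg)
        · right
          have hsub : (W : Set G) ⊆ {a | a ∈ coreAt z ∧ K'.nv a ∈ K'.nv '' (W : Set G)} :=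
            fun a ha => ⟨hW ha, a, ha, rfl⟩
          have := Set.ncard_le_ncard hsub (Set.toFinite _)
          rw [K'.pre_ncard, ← Nat.card_coe_set_eq] at this
          have h8' : 8 ≤ Nat.card ((W : Set G) : Type _) := h8
          omega
  obtain ⟨a, haJ, rfl⟩ := K'.nv_surj a
  obtain ⟨b, hbJ, rfl⟩ := K'.nv_surj b
  rw [← hact, ← K'.nv_comm ht haJ] at ha ha0 hab
  rw [← hact, ← K'.nv_comm ht hbJ] at hb hb0 hpol
  rw [← K'.nv_comm ht hbJ] at hab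
  have hA := K'.comm_mem ht haJ
  have hB := K'.comm_mem ht hbJ
  refine ⟨a, haJ, b, hbJ, hWnv _ hA ha, hWnv _ hB hb, fun h => ha0 ?_, fun h => hb0 ?_, fun h => hab ?_,
    (K'.pol_comm haJ hB).2 hpol⟩
  · rw [(K'.nv_zero hA).2 h]; rfl
  · rw [(K'.nv_zero hB).2 h]; rfl
  · exact xorV_eq_zero ((K'.nv_mul _ hA _ hB).symm.trans ((K'.nv_zero (mul_mem hA hB)).2 h))

theorem odd_img {t : G} (ht : Commute z t) (ht2 : t * t = 1) (htJ : t ∉ coreAt z) (hne : ∀ p, K.perm t ≠ tvP p)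
    (hng : ¬ GoodP (K.perm t)) {N : Subgroup G} (hN : N ≤ centralizer {z}) (hsq : ∀ a ∈ N, a * a ∈ coreAt z)
    (htN : t ∈ N)
    (hbig : 16 ≤ (K.perm '' (N : Set G)).ncard ∨ (8 ≤ (K.perm '' (N : Set G)).ncard ∧
      ∀ g : G, Commute z g → Commute (K.perm g) (K.perm t) → ∀ a ∈ N, ∃ a' ∈ N, K.perm (g * a * g⁻¹) = K.perm a')) :
    ∃ a ∈ N, GoodP (K.perm a) ∧ GoodP (K.perm a * K.perm t) := by
  have hcl := odd_class (aHom_mem (K.prj t)) (K.perm_sq ht (ht2 ▸ one_mem _))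
    (K.perm_ne_one ht (ht2 ▸ one_mem _) htJ) hne hng
  have hfull : ∀ σ : Agrp, ∃ g, Commute z g ∧ K.act g = σ.1 := by
    refine K.full_or_inner.resolve_right fun hin => hcl.2 ?_
    rw [aHom_lin (hin t ht)]
    exact ptHom_mem _
  obtain ⟨x, hx, h1, h2⟩ := odd_pair (M := (K.imgHom N hN).range.map aHom) (τ := K.perm t)
    (by rintro _ ⟨σ, -, rfl⟩; exact aHom_mem σ)
    (by
      rintro _ ⟨_, ⟨a, rfl⟩, rfl⟩
      exact K.perm_sq (comm_le hN a.2) (hsq a a.2))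
    hcl.1 ⟨K.prj t, ⟨⟨t, htN⟩, rfl⟩, rfl⟩ (by
      rw [← K.perm_ncard N hN]
      refine hbig.imp_right fun ⟨h8, hn⟩ => ⟨h8, ?_⟩
      intro y hy hyc m hm
      rw [← SetLike.mem_coe, ← K.perm_image N hN] at hm ⊢
      obtain ⟨a, ha, rfl⟩ := hm
      obtain ⟨σ, rfl⟩ := exists_semi hy
      obtain ⟨g, hg, e⟩ := hfull σ
      have eg : K.perm g = aHom σ := K.prj_lift hg e
      obtain ⟨a', ha', e'⟩ := hn g hg (eg ▸ hyc) a ha
      refine ⟨a', ha', ?_⟩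
      rw [← e', ← eg, perm, perm, perm, K.prj_conj hg (comm_le hN ha), map_mul, map_mul, map_inv])
  rw [← SetLike.mem_coe, ← K.perm_image N hN] at hx
  obtain ⟨a, ha, rfl⟩ := hx
  exact ⟨a, ha, h1, h2⟩

set_option maxHeartbeats 1600000 in
/-- The local hypotheses. -/
noncomputable def loc : U62Aut.Loc geo z where
  perm := K.perm
  rad := K.rad
  xs := K.xs
  card := K.card
  perm_mul _ _ hg hh := K.perm_mul hg hh
  perm_core g hg := K.perm_one_iff.2 (K.prj_core hg)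
  ker_two g hg h _ hk := K.mem_of_two hg (K.perm_one_iff.1 h) hk
  ker_tr p q e f he hf hep hfq he2 hf2 n h := by
    have hef := he.mul_right hf
    have hA : K.act ((e * f) ^ n) = (tvV p * tvV q) ^ n := by
      rw [K.act_pow hef, K.act_mul e f he hf, K.act_tv he he2 hep, K.act_tv hf hf2 hfq]
    have hmem : (tvV p * tvV q) ^ n ∈ Agrp := pow_mem (lin_le (mul_mem (tvV_mem p) (tvV_mem q))) n
    have h1 := K.prj_exact (hef.pow_right n) (σ := ⟨_, hmem⟩) hA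
    rw [K.perm_one_iff.1 h] at h1
    exact K.act_comm_core (hef.pow_right n) (hA.trans (congrArg Subtype.val h1).symm)
  ker_fix g hg h s hs h1 hz hgs := by
    have e := K.act_eq hg
    rw [K.perm_one_iff.1 h, coe_one, one_mul] at e
    have hfx := K.act_fix hg hs hgs.symm
    refine K.act_comm_core hg ?_
    rw [e] at hfx ⊢
    exact omP_pow_fix (K.rad_nv_ne hs h1 hz) hfx
  adjust t g ht hg ht2 hc := K.adjust ht hg ht2 hc
  col := K.col
  col_eq u v hu hv hu2 hv2 h hcol := by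
    refine K.act_comm_core (hu.mul_right hv) ?_
    rw [K.act_mul u v hu hv, K.act_eq hu, K.perm_inj h, hcol, ← K.act_eq hv, ← K.act_mul v v hv hv, hv2, K.act_1]
  perm_adj g _ p q := adj_permA (aHom_mem _) p q
  perm_tr g _ p := tvP_conjA (aHom_mem _) p
  trans p q := by
    obtain ⟨τ, hτ, e⟩ := exists_move p q
    obtain ⟨σ, rfl⟩ := exists_semi (grp_le hτ)
    obtain ⟨g, hg, eg⟩ := K.inner σ.1 (aHom_inner hτ)
    exact ⟨g, hg, by rw [K.prj_lift hg eg]; exact e⟩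
  perm_invs g hg h2 h1 := mem_invsA (aHom_mem _) (K.perm_sq hg h2) (K.perm_ne_one hg h2 h1)
  rad_le _ := fun _ ha => ha.1
  z_mem_rad _ := ⟨K.xs.mem, Or.inl K.nv_z⟩
  rad_card p := by
    rw [← SetLike.coe_sort_coe, Nat.card_coe_set_eq]
    exact (K.pre_ncard {v | InLine p v}).trans (by rw [line_card p])
  rad_sq p x hx := (K.nv_sq x hx.1).2 (inLine_q hx.2)
  perp_card p := by
    have e : ((coreAt z ⊓ centralizer (K.rad p : Set G) : Subgroup G) : Set G) =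
        {a | a ∈ coreAt z ∧ K.nv a ∈ {x : Vec | herm x (repC p) = 0}} := by
      ext a
      simp only [coe_inf, Set.mem_inter_iff, SetLike.mem_coe, Set.mem_ofPred_eq]
      refine and_congr_right fun ha => ?_
      rw [← K.centralizer_rad p ha, mem_centralizer_iff]
      exact ⟨fun h r hr => (h r hr).symm, fun h r hr => (h r hr).eq.symm⟩
    rw [← SetLike.coe_sort_coe, Nat.card_coe_set_eq, e, K.pre_ncard, (perp_facts p).2]
  rad_conj g hg p x hx := by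
    refine ⟨K.conj_core hg hx.1, ?_⟩
    rw [K.act_conj g hg x hx.1]
    exact K.inLine_act hg hx.2
  rad_inf p q hpq x hp hq := by
    rw [← K.nv_zero hp.1]
    by_contra h
    exact hpq ((inLine_sing hp.2 h).2.symm.trans (inLine_sing hq.2 h).2)
  rad_cover x hx h2 h1 hz := by
    have hs : Sing (K.nv x) := ⟨fun h => K.rad_nv_ne hx h1 hz (Fin.ext h), (K.nv_sq x hx).1 h2⟩
    exact ⟨pIdx (K.nv x), hx, inLine_of_sing hs⟩
  tr_comm_mem p g hg he hg2 a ha := by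
    refine ⟨K.comm_mem hg ha, ?_⟩
    rw [K.nv_comm hg ha, K.act_tv hg hg2 he]
    rcases ((tvC_check p).1 (K.nv a) (K.nv a).2).2.2.2 with h | h | h | h
    · left
      rw [show tvV p (K.nv a) = K.nv a from Fin.ext h, xorV_self]
    · exact Or.inr (Or.inl (Fin.ext h))
    · exact Or.inr (Or.inr (Or.inl (Fin.ext h)))
    · exact Or.inr (Or.inr (Or.inr (Fin.ext h)))
  tr_ker p g hg he hg2 a ha := by
    rw [K.comm_zpowers hg ha, K.act_tv hg hg2 he, K.centralizer_rad p ha,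
      ← ((tvC_check p).1 (K.nv a) (K.nv a).2).2.2.1, Fin.ext_iff]
    rfl
  stab_elem p s hs h1 hz N hN hnor hsq := K.stab_elem hs h1 hz hN hnor hsq
  stab_gap p s hs h1 hz W hW hWsq hzW hsW hnor := K.stab_gap hs h1 hz hW hWsq hzW hsW hnor
  stab_closure p s hs h1 hz W hW hWsq hzW hsW h8 hnor := K.stab_closure hs h1 hz hW hWsq hzW hsW h8 hnor
  elem_le N hN hsq := by
    rw [K.perm_ncard N hN]
    refine elem16A ?_ ?_
    · rintro _ ⟨σ, -, rfl⟩; exact aHom_mem σ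
    · rintro _ ⟨_, ⟨a, rfl⟩, rfl⟩
      exact K.perm_sq (comm_le hN a.2) (hsq a a.2)
  tr_small p N hN hsq hc := by
    have hM : ∀ x ∈ (K.imgHom N hN).range.map aHom, ∃ a ∈ N, Commute z a ∧ x = K.perm a := by
      rintro _ ⟨_, ⟨a, rfl⟩, rfl⟩
      exact ⟨a, a.2, comm_le hN a.2, rfl⟩
    obtain ⟨h32, hcen⟩ := tr32A (p := p) (M := (K.imgHom N hN).range.map aHom)
      (by rintro _ ⟨σ, -, rfl⟩; exact aHom_mem σ)
      (fun x hx => by
        obtain ⟨a, ha, haz, rfl⟩ := hM x hx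
        rw [← K.perm_mul haz haz]
        exact hsq a ha)
      (fun x hx => by obtain ⟨a, ha, -, rfl⟩ := hM x hx; exact hc a ha)
    refine ⟨(K.perm_ncard N hN).le.trans h32, fun h a ha hcom => ?_⟩
    refine hcen ((K.perm_ncard N hN).symm.trans h) _ ?_ fun x hx => ?_
    · rw [← SetLike.mem_coe, ← K.perm_image N hN]
      exact ⟨a, ha, rfl⟩
    · obtain ⟨b, hb, -, rfl⟩ := hM x hx
      exact hcom b hb
  other_comm t ht ht2 htJ hne a ha hcomm := K.other_comm ht ht2 htJ hne ha hcomm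
  other_card t ht ht2 htJ hne := K.other_card ht ht2 htJ hne
  other_pair t ht ht2 htJ hne W hW hzW hWsq hx hbig hWt hnor :=
    K.other_pair ht ht2 htJ hne hW hzW hWsq hx hbig hWt hnor
  odd_root t ht ht2 htJ hne hng g hg e := by
    refine (odd_class (aHom_mem (K.prj t)) (K.perm_sq ht (ht2 ▸ one_mem _))
      (K.perm_ne_one ht (ht2 ▸ one_mem _) htJ) hne hng).2 ?_
    rw [K.perm_mul hg hg] at e
    show K.perm t ∈ Grp
    rw [← e]
    exact sq_mem (aHom_mem (K.prj g))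
  odd_img t ht ht2 htJ hne hng N hN hsq htN hbig := K.odd_img ht ht2 htJ hne hng hN hsq htN hbig

end CrdT

end Cfsg.Agent.U62Three.End
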