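import Cfsg.Agent.Lib.U62Aut.Model.Bridge

/-!
Coordinates on the 2-core modulo its centre in which the centralizer acts through the semilinear group times the
scalars, the kernel being the 2-core: the decomposition of an element into a semilinear map and a scalar.
-/

set_option autoImplicit false
set_option linter.unusedSectionVars false
set_option linter.style.haveILetI false
set_option maxRecDepth 20000

namespace Cfsg.Agent.U62Three.End

open Subgroup LargeExtra U62Rec.Model Cfsg.Agent.PermCert U62Aut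
open scoped commutatorElement

theorem omP_ne : omP ≠ 1 := fun h => absurd (congrArg (fun σ : Equiv.Perm Vec => (σ v5 : ℕ)) h) (by decide +kernel)

theorem orderOf_omP : orderOf omP = 3 := by
  haveI : Fact (Nat.Prime 3) := ⟨Nat.prime_three⟩
  exact orderOf_eq_prime omP_cube omP_ne

theorem omP_pow_eq_one {k : ℕ} : omP ^ k = 1 ↔ 3 ∣ k := by
  rw [← orderOf_dvd_iff_pow_eq_one, orderOf_omP]

theorem omP_pow_mod (k : ℕ) : omP ^ k = omP ^ (k % 3) := by
  conv_lhs => rw [← pow_mod_orderOf, orderOf_omP]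

theorem om_fix : ∀ v < 256, omC v = v → v = 0 := by decide +kernel

theorem omP_pow_fix {k : ℕ} {v : Vec} (hv : v ≠ U62Rec.Model.zeroV) (h : (omP ^ k) v = v) : omP ^ k = 1 := by
  have h3 := Nat.mod_lt k (show 3 > 0 by norm_num)
  have hno : omV v ≠ v := fun e => hv (Fin.ext (om_fix v v.2 (congrArg Fin.val e)))
  rw [omP_pow_mod] at h ⊢
  interval_cases hk : k % 3
  · rw [pow_zero]
  · exact absurd (by rwa [pow_one] at h) hno
  · refine absurd ?_ hno
    rw [pow_two, Equiv.Perm.mul_apply, omP_apply, omP_apply] at h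
    have h2 := congrArg omV h
    rw [(omega_facts v).1] at h2
    exact h2.symm

theorem omP_pow_line (k : ℕ) : ∀ {p : Pt} {v : Vec}, InLine p v → InLine p ((omP ^ k) v) := by
  induction k with
  | zero => exact fun h => h
  | succ k ih =>
    intro p v h
    rw [pow_succ, Equiv.Perm.mul_apply]
    exact ih (inLine_om h)

/-- The scalars pass through a semilinear map. -/
theorem omP_pass (σ : Agrp) (k : ℕ) : ∃ n, omP ^ k * σ.1 = σ.1 * omP ^ n := by
  by_cases h : σ.1 ∈ Lgrp
  · exact ⟨k, ((omP_comm h).pow_right k).eq.symm⟩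
  · refine ⟨k + k, ?_⟩
    have h1 : omP * σ.1 = σ.1 * omP ^ 2 := by
      have e := omP_swap σ.2 h
      rw [pow_two, ← mul_assoc, e, mul_assoc, e, ← mul_assoc, show omP⁻¹ * omP⁻¹ = omP by
        rw [← mul_inv_rev, ← pow_two, inv_eq_iff_eq_inv, eq_inv_iff_mul_eq_one, ← pow_succ, omP_cube]]
    induction k with
    | zero => simp
    | succ k ih =>
      rw [pow_succ, mul_assoc, h1, ← mul_assoc, ih, mul_assoc, ← pow_add,
        show k + k + 2 = k + 1 + (k + 1) by ring]

/-- An outer semilinear involution times a scalar squares to one. -/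
theorem outer_sq {σ : Agrp} (h : σ.1 ∉ Lgrp) (k : ℕ) : σ.1 * omP ^ k * (σ.1 * omP ^ k) = σ.1 * σ.1 := by
  have hsw : ∀ n : ℕ, σ.1 * omP ^ n = (omP⁻¹) ^ n * σ.1 := fun n => by
    induction n with
    | zero => simp
    | succ n ih => rw [pow_succ, ← mul_assoc, ih, mul_assoc, omP_swap σ.2 h, ← mul_assoc, ← pow_succ]
  calc σ.1 * omP ^ k * (σ.1 * omP ^ k) = σ.1 * (omP ^ k * (σ.1 * omP ^ k)) := by group
    _ = σ.1 * σ.1 := by rw [hsw, ← mul_assoc (omP ^ k), inv_pow, mul_inv_cancel, one_mul]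

/-- The semilinear part and the scalar are unique. -/
theorem decomp_unique {σ τ : Agrp} {k l : ℕ} (h : σ.1 * omP ^ k = τ.1 * omP ^ l) : σ = τ ∧ omP ^ k = omP ^ l := by
  have hc : conjA (τ⁻¹ * σ) = 1 := by
    refine MulEquiv.ext fun g => Subtype.ext ?_
    rw [conjA_apply]
    have e : (τ⁻¹ * σ : Agrp).1 = omP ^ l * (omP ^ k)⁻¹ := by
      rw [coe_mul, coe_inv, inv_mul_eq_iff_eq_mul, ← mul_assoc, ← h, mul_inv_cancel_right]
    rw [e]
    have hg := omP_comm g.2
    rw [show omP ^ l * (omP ^ k)⁻¹ * g.1 * (omP ^ l * (omP ^ k)⁻¹)⁻¹ = g.1 from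
      mul_inv_eq_iff_eq_mul.2 ((hg.pow_right l).mul_right (hg.pow_right k).inv_right).eq.symm]
    rfl
  have hst : τ⁻¹ * σ = 1 := conjA_injective (hc.trans (map_one conjA).symm)
  obtain rfl : τ = σ := (inv_mul_eq_one.1 hst)
  exact ⟨rfl, mul_left_cancel h⟩

/-- Coordinates on the 2-core. -/
structure CrdT {G : Type*} [Group G] (z : G) where
  xs : XSLocal (coreAt z) z
  card : Nat.card (coreAt z) = 512
  /-- The vector of an element of the core. -/
  nv : G → Vec
  nv_mul : ∀ a ∈ coreAt z, ∀ b ∈ coreAt z, nv (a * b) = xorV (nv a) (nv b)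
  nv_surj : ∀ v, ∃ a ∈ coreAt z, nv a = v
  nv_eq : ∀ a ∈ coreAt z, ∀ b ∈ coreAt z, nv a = nv b ↔ (b = a ∨ b = a * z)
  nv_sq : ∀ a ∈ coreAt z, (a * a = 1 ↔ q0 (nv a) = 0)
  /-- The map of an element of the centralizer. -/
  act : G → Equiv.Perm Vec
  act_mul : ∀ g h : G, Commute z g → Commute z h → act (g * h) = act g * act h
  act_one : ∀ g : G, Commute z g → (act g = 1 ↔ g ∈ coreAt z)
  act_conj : ∀ g : G, Commute z g → ∀ a ∈ coreAt z, nv (g * a * g⁻¹) = act g (nv a)
  act_mem : ∀ g : G, Commute z g → ∃ (σ : Agrp) (k : Fin 3), act g = σ.1 * omP ^ (k : ℕ)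
  inner : ∀ σ ∈ Lgrp, ∃ g : G, Commute z g ∧ act g = σ
  exact : ∀ g : G, Commute z g → ∀ (σ : Agrp) (k : ℕ), act g = σ.1 * omP ^ k → ∃ h, Commute z h ∧ act h = σ.1

namespace CrdT

variable {G : Type*} [Group G] [Finite G] {z : G} (K : CrdT z)

include K

theorem sq : z * z = 1 := K.xs.toXSub.sq

theorem comm_z {a : G} (ha : a ∈ coreAt z) : Commute z a := (K.xs.comm ha).symm

theorem act_1 : K.act 1 = 1 := (K.act_one 1 (Commute.one_right z)).2 (one_mem _)

theorem act_inv {g : G} (hg : Commute z g) : K.act g⁻¹ = (K.act g)⁻¹ :=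
  eq_inv_of_mul_eq_one_right (by rw [← K.act_mul g g⁻¹ hg hg.inv_right, mul_inv_cancel, K.act_1])

theorem act_pow {g : G} (hg : Commute z g) (n : ℕ) : K.act (g ^ n) = K.act g ^ n := by
  induction n with
  | zero => rw [pow_zero, pow_zero, K.act_1]
  | succ n ih => rw [pow_succ, pow_succ, K.act_mul _ _ (hg.pow_right n) hg, ih]

/-- The semilinear part. -/
noncomputable def prj (g : G) : Agrp := by
  classical exact if h : Commute z g then (K.act_mem g h).choose else 1

/-- The scalar part. -/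
noncomputable def col (g : G) : Fin 3 := by
  classical exact if h : Commute z g then (K.act_mem g h).choose_spec.choose else 0

theorem act_eq {g : G} (hg : Commute z g) : K.act g = (K.prj g).1 * omP ^ (K.col g : ℕ) := by
  classical
  simp only [prj, col, dif_pos hg]
  exact (K.act_mem g hg).choose_spec.choose_spec

theorem prj_of {g : G} (hg : Commute z g) {σ : Agrp} {k : ℕ} (h : K.act g = σ.1 * omP ^ k) : K.prj g = σ :=
  (decomp_unique ((K.act_eq hg).symm.trans h)).1

theorem prj_exact {g : G} (hg : Commute z g) {σ : Agrp} (h : K.act g = σ.1) : K.prj g = σ :=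
  K.prj_of hg (k := 0) (by rw [pow_zero, mul_one]; exact h)

theorem prj_one : K.prj 1 = 1 := K.prj_exact (Commute.one_right z) K.act_1

theorem prj_core {g : G} (hg : g ∈ coreAt z) : K.prj g = 1 :=
  K.prj_exact (K.comm_z hg) ((K.act_one g (K.comm_z hg)).2 hg)

theorem prj_mul {g h : G} (hg : Commute z g) (hh : Commute z h) : K.prj (g * h) = K.prj g * K.prj h := by
  obtain ⟨n, hn⟩ := omP_pass (K.prj h) (K.col g : ℕ)
  refine K.prj_of (hg.mul_right hh) (k := n + (K.col h : ℕ)) ?_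
  rw [K.act_mul g h hg hh, K.act_eq hg, K.act_eq hh, coe_mul, pow_add,
    show (K.prj g).1 * omP ^ (K.col g : ℕ) * ((K.prj h).1 * omP ^ (K.col h : ℕ)) =
      (K.prj g).1 * (omP ^ (K.col g : ℕ) * (K.prj h).1) * omP ^ (K.col h : ℕ) by group, hn]
  group

theorem prj_inv {g : G} (hg : Commute z g) : K.prj g⁻¹ = (K.prj g)⁻¹ :=
  eq_inv_of_mul_eq_one_right (by rw [← K.prj_mul hg hg.inv_right, mul_inv_cancel, K.prj_one])

theorem prj_conj {g a : G} (hg : Commute z g) (ha : Commute z a) :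
    K.prj (g * a * g⁻¹) = K.prj g * K.prj a * (K.prj g)⁻¹ := by
  rw [K.prj_mul (hg.mul_right ha) hg.inv_right, K.prj_mul hg ha, K.prj_inv hg]

theorem act_conj' {g a : G} (hg : Commute z g) (ha : Commute z a) :
    K.act (g * a * g⁻¹) = K.act g * K.act a * (K.act g)⁻¹ := by
  rw [K.act_mul _ _ (hg.mul_right ha) hg.inv_right, K.act_mul g a hg ha, K.act_inv hg]

/-- An element acting as a scalar, some power of it in the core. -/
theorem mem_of_two {g : G} (hg : Commute z g) (h : K.prj g = 1) {k : ℕ} (hk : g ^ 2 ^ k ∈ coreAt z) :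
    g ∈ coreAt z := by
  have h1 := (K.act_one _ (hg.pow_right _)).2 hk
  have e : K.act g = omP ^ (K.col g : ℕ) := by rw [K.act_eq hg, h, coe_one, one_mul]
  rw [K.act_pow hg, e, ← pow_mul, omP_pow_eq_one] at h1
  have h3 : 3 ∣ (K.col g : ℕ) := (Nat.Coprime.pow_right k (by norm_num : Nat.Coprime 3 2)).dvd_of_dvd_mul_right h1
  rw [← K.act_one g hg, e, omP_pow_eq_one]
  exact h3

/-- The semilinear part of an involution is one. -/
theorem prj_sq {g : G} (hg : Commute z g) (h : g * g ∈ coreAt z) : K.prj g * K.prj g = 1 := by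
  rw [← K.prj_mul hg hg, K.prj_core h]

/-- An involution acting inner acts without scalar. -/
theorem act_invol {g : G} (hg : Commute z g) (h : g * g ∈ coreAt z) (hin : (K.prj g).1 ∈ Lgrp) :
    K.act g = (K.prj g).1 := by
  have e := (K.act_one _ (hg.mul_right hg)).2 h
  rw [K.act_mul g g hg hg, K.act_eq hg,
    ((omP_comm hin).pow_right (K.col g : ℕ)).symm.mul_mul_mul_comm, ← coe_mul, K.prj_sq hg h, coe_one, one_mul,
    ← pow_add, omP_pow_eq_one] at e
  have h3 : 3 ∣ (K.col g : ℕ) := by omega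
  rw [K.act_eq hg, omP_pow_eq_one.2 h3, mul_one]

/-- An involution over a transvection acts as it. -/
theorem act_tv {g : G} (hg : Commute z g) (h : g * g ∈ coreAt z) {p : Pt} (hp : aHom (K.prj g) = tvP p) :
    K.act g = tvV p := by
  have e := eq_tvA hp
  rw [K.act_invol hg h (e ▸ tvV_mem p), e]

/-- The coordinates seen through a conjugation. -/
noncomputable def shift (e : G) (he : Commute z e) : CrdT z where
  xs := K.xs
  card := K.card
  nv a := K.nv (e⁻¹ * a * e)
  nv_mul a ha b hb := by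
    have hc : ∀ x ∈ coreAt z, e⁻¹ * x * e ∈ coreAt z := fun x hx => by
      have := conj_mem (coreAt_normal z (mem_centralizer_one.2 he.inv_right.eq.symm)) hx
      rwa [inv_inv] at this
    rw [← K.nv_mul _ (hc a ha) _ (hc b hb)]
    congr 1
    group
  nv_surj v := by
    obtain ⟨a, ha, rfl⟩ := K.nv_surj v
    refine ⟨e * a * e⁻¹, conj_mem (coreAt_normal z (mem_centralizer_one.2 he.eq.symm)) ha, ?_⟩
    congr 1
    group
  nv_eq a ha b hb := by
    have hc : ∀ x ∈ coreAt z, e⁻¹ * x * e ∈ coreAt z := fun x hx => by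
      have := conj_mem (coreAt_normal z (mem_centralizer_one.2 he.inv_right.eq.symm)) hx
      rwa [inv_inv] at this
    rw [K.nv_eq _ (hc a ha) _ (hc b hb), show e⁻¹ * a * e * z = e⁻¹ * (a * z) * e by
      rw [show e⁻¹ * (a * z) * e = e⁻¹ * a * (z * e) by group, he.eq]; group]
    exact or_congr ⟨fun h => mul_left_cancel (mul_right_cancel h), fun h => by rw [h]⟩
      ⟨fun h => mul_left_cancel (mul_right_cancel h), fun h => by rw [h]⟩
  nv_sq a ha := by
    have hc : e⁻¹ * a * e ∈ coreAt z := by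
      have := conj_mem (coreAt_normal z (mem_centralizer_one.2 he.inv_right.eq.symm)) ha
      rwa [inv_inv] at this
    rw [← K.nv_sq _ hc, show e⁻¹ * a * e * (e⁻¹ * a * e) = e⁻¹ * (a * a) * e⁻¹⁻¹ by group, conj_eq_one_iff]
  act g := (K.act e)⁻¹ * K.act g * K.act e
  act_mul g h hg hh := by rw [K.act_mul g h hg hh]; group
  act_one g hg := by
    rw [← K.act_one g hg]
    exact ⟨fun h => by
      have := congrArg (fun x => K.act e * x * (K.act e)⁻¹) h
      simpa [mul_assoc] using this, fun h => by rw [h, mul_one, inv_mul_cancel]⟩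
  act_conj g hg a ha := by
    have hc : e⁻¹ * a * e ∈ coreAt z := by
      have := conj_mem (coreAt_normal z (mem_centralizer_one.2 he.inv_right.eq.symm)) ha
      rwa [inv_inv] at this
    rw [← K.act_inv he, ← K.act_mul _ _ he.inv_right hg, ← K.act_mul _ _ (he.inv_right.mul_right hg) he,
      ← K.act_conj _ ((he.inv_right.mul_right hg).mul_right he) _ hc]
    congr 1
    group
  act_mem g hg := by
    obtain ⟨σ, k, h⟩ := K.act_mem (e⁻¹ * g * e) ((he.inv_right.mul_right hg).mul_right he)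
    exact ⟨σ, k, by rw [← h, K.act_mul _ _ (he.inv_right.mul_right hg) he, K.act_mul _ _ he.inv_right hg, K.act_inv he]⟩
  inner σ hσ := by
    obtain ⟨g, hg, h⟩ := K.inner σ hσ
    have hz : Commute z (e * g * e⁻¹) := (he.mul_right hg).mul_right he.inv_right
    refine ⟨_, hz, ?_⟩
    rw [K.act_conj' he hg, h]
    group
  exact g hg σ k h := by
    obtain ⟨h', hh', e'⟩ := K.exact (e⁻¹ * g * e) ((he.inv_right.mul_right hg).mul_right he) σ k (by
      rw [← h, K.act_mul _ _ (he.inv_right.mul_right hg) he, K.act_mul _ _ he.inv_right hg, K.act_inv he])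
    refine ⟨e * h' * e⁻¹, (he.mul_right hh').mul_right he.inv_right, ?_⟩
    rw [K.act_conj' he hh', e']
    group

theorem shift_prj {e : G} (he : Commute z e) (h1 : K.prj e = 1) {g : G} (hg : Commute z g) :
    (K.shift e he).prj g = K.prj g := by
  have e1 : K.prj (e⁻¹ * g * e) = K.prj g := by
    rw [K.prj_mul (he.inv_right.mul_right hg) he, K.prj_mul he.inv_right hg, K.prj_inv he, h1, inv_one, one_mul,
      mul_one]
  have hz : Commute z (e⁻¹ * g * e) := (he.inv_right.mul_right hg).mul_right he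
  refine (K.shift e he).prj_of hg (k := (K.col (e⁻¹ * g * e) : ℕ)) ?_
  rw [← e1, ← K.act_eq hz, K.act_mul _ _ (he.inv_right.mul_right hg) he, K.act_mul _ _ he.inv_right hg, K.act_inv he]
  rfl

/-- After a conjugation a subgroup of exponent two modulo the core acts without scalars. -/
theorem exists_shift (N : Subgroup G) (hN : ∀ a ∈ N, Commute z a) (hsq : ∀ a ∈ N, a * a ∈ coreAt z) :
    ∃ (e : G) (he : Commute z e), K.prj e = 1 ∧ ∀ a ∈ N, (K.shift e he).act a = ((K.shift e he).prj a).1 := by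
  by_cases hall : ∀ a ∈ N, (K.prj a).1 ∈ Lgrp
  · refine ⟨1, Commute.one_right z, K.prj_one, fun a ha => ?_⟩
    rw [K.shift_prj _ K.prj_one (hN a ha)]
    show (K.act 1)⁻¹ * K.act a * K.act 1 = _
    rw [K.act_1, inv_one, one_mul, mul_one, K.act_invol (hN a ha) (hsq a ha) (hall a ha)]
  push Not at hall
  obtain ⟨a₀, ha₀, hout⟩ := hall
  have hz₀ := hN a₀ ha₀
  obtain ⟨h₀, hh₀, e₀⟩ := K.exact a₀ hz₀ _ _ (K.act_eq hz₀)
  obtain ⟨e, he_def⟩ : ∃ e, e = h₀⁻¹ * a₀ := ⟨_, rfl⟩
  have he : Commute z e := he_def ▸ hh₀.inv_right.mul_right hz₀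
  have hAe : K.act e = omP ^ (K.col a₀ : ℕ) := by
    rw [he_def, K.act_mul _ _ hh₀.inv_right hz₀, K.act_inv hh₀, e₀, K.act_eq hz₀, inv_mul_cancel_left]
  have hpe : K.prj e = 1 := K.prj_of he (k := (K.col a₀ : ℕ)) (by rw [coe_one, one_mul, hAe])
  refine ⟨e, he, hpe, fun a ha => ?_⟩
  obtain ⟨K', hK'⟩ : ∃ K', K' = K.shift e he := ⟨_, rfl⟩
  rw [← hK']
  have hp : ∀ g, Commute z g → K'.prj g = K.prj g := fun g hg => hK' ▸ K.shift_prj he hpe hg
  have hza := hN a ha
  by_cases hin : (K'.prj a).1 ∈ Lgrp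
  · exact K'.act_invol hza (hsq a ha) hin
  -- the chosen element acts without scalar
  have h0 : K'.act a₀ = (K'.prj a₀).1 := by
    rw [hp a₀ hz₀, hK']
    show (K.act e)⁻¹ * K.act a₀ * K.act e = _
    have hk : omP ^ ((K.col a₀ : ℕ) + (K.col a₀ : ℕ) + (K.col a₀ : ℕ)) = 1 := omP_pow_eq_one.2 ⟨_, by ring⟩
    obtain ⟨n, hn⟩ := omP_pass (K.prj a₀) ((K.col a₀ : ℕ) + (K.col a₀ : ℕ))
    have hinv : (omP ^ (K.col a₀ : ℕ))⁻¹ = omP ^ ((K.col a₀ : ℕ) + (K.col a₀ : ℕ)) :=
      inv_eq_of_mul_eq_one_right (by rw [← pow_add, ← add_assoc]; exact hk)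
    have hn' : omP ^ n = omP ^ (K.col a₀ : ℕ) := by
      have h2 := outer_sq hout ((K.col a₀ : ℕ) + (K.col a₀ : ℕ))
      rw [mul_assoc, ← mul_assoc (omP ^ _), hn, mul_assoc _ (omP ^ n), ← pow_add] at h2
      have h4 : omP ^ (n + ((K.col a₀ : ℕ) + (K.col a₀ : ℕ))) = 1 :=
        mul_left_cancel (mul_left_cancel (h2.trans (by rw [mul_one])))
      rw [pow_add] at h4
      rw [eq_inv_of_mul_eq_one_left h4, ← hinv, inv_inv]
    rw [hAe, hinv, K.act_eq hz₀, ← mul_assoc, hn, hn', mul_assoc, mul_assoc, ← pow_add, ← pow_add, ← add_assoc, hk,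
      mul_one]
  -- the other commutes with it
  have hcomm : K'.act a₀ * K'.act a = K'.act a * K'.act a₀ := by
    have hsq' : ∀ b ∈ N, K'.act b * K'.act b = 1 := fun b hb => by
      rw [← K'.act_mul b b (hN b hb) (hN b hb)]
      exact (K'.act_one _ ((hN b hb).mul_right (hN b hb))).2 (hsq b hb)
    have h1 := hsq' _ (N.mul_mem ha₀ ha)
    rw [K'.act_mul a₀ a hz₀ hza] at h1
    calc K'.act a₀ * K'.act a = (K'.act a₀ * K'.act a)⁻¹ := eq_inv_of_mul_eq_one_left h1
      _ = K'.act a * K'.act a₀ := by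
        rw [mul_inv_rev, inv_eq_of_mul_eq_one_right (hsq' a ha), inv_eq_of_mul_eq_one_right (hsq' a₀ ha₀)]
  obtain ⟨m, hm⟩ := omP_pass (K'.prj a₀) (K'.col a : ℕ)
  have hσ : K'.prj a₀ * K'.prj a = K'.prj a * K'.prj a₀ := by
    rw [← K'.prj_mul hz₀ hza, ← K'.prj_mul hza hz₀]
    have hL := hz₀.mul_right hza
    refine (K'.prj_of hL (k := (K'.col (a * a₀) : ℕ)) ?_)
    rw [K'.act_mul a₀ a hz₀ hza, hcomm, ← K'.act_mul a a₀ hza hz₀, K'.act_eq (hza.mul_right hz₀)]
  rw [h0, K'.act_eq hza, ← mul_assoc, mul_assoc _ (omP ^ _), hm, ← mul_assoc, ← coe_mul, hσ, coe_mul] at hcomm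
  have hm' := mul_left_cancel hcomm
  have hout' : (K'.prj a₀).1 ∉ Lgrp := by rw [hp a₀ hz₀]; exact hout
  have h2 := outer_sq hout' (K'.col a : ℕ)
  rw [mul_assoc, ← mul_assoc (omP ^ _), hm, mul_assoc _ (omP ^ m), ← pow_add] at h2
  have h4 : omP ^ (m + (K'.col a : ℕ)) = 1 := mul_left_cancel (mul_left_cancel (h2.trans (by rw [mul_one])))
  rw [pow_add, ← hm', ← pow_add, omP_pow_eq_one] at h4
  have h3 : 3 ∣ (K'.col a : ℕ) := by omega
  rw [K'.act_eq hza, omP_pow_eq_one.2 h3, mul_one]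

end CrdT

end Cfsg.Agent.U62Three.End
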