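import Cfsg.Agent.Lib.U62Three.End.Action
import Cfsg.Agent.Lib.U62Three.Close.Lin

/-!
From the centralizer of the involution: the kernel of the action on the signaliser modulo its centre is the
signaliser, which is the 2-core, the normal part is normal in the centralizer and fixes no vector.
-/

set_option autoImplicit false
set_option linter.unusedSectionVars false
set_option linter.style.haveILetI false
set_option maxRecDepth 20000

namespace Cfsg.Agent.U62Three.End

open Subgroup LargeExtra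
open Co2Three (V4 e3)
open scoped commutatorElement

universe u

variable {G : Type u} [Group G] [Finite G] {L : Loc G} {W : Subgroup G} {c : G}

theorem t_mem (T : CenT L W c) : L.S.t ∈ W := T.q.mid.P_le L.S.t_mem

theorem order_t (L : Loc G) : orderOf L.S.t = 2 :=
  orderOf_eq_prime (by rw [pow_two]; exact L.S.t_sq) L.S.t_ne

theorem commute_t (L : Loc G) {g : G} : g ∈ centralizer ({L.S.t} : Set G) ↔ Commute g L.S.t :=
  mem_centralizer_singleton_iff

/-- The signaliser as an extraspecial group at the involution. -/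
theorem xs_W (T : CenT L W c) : XSLocal W L.S.t := by
  refine XSLocal.of_core (order_t L) T.q.mid.extra (t_mem T) T.q.mid.le (fun x hx => ?_)
    (T.top.le.trans Close.topGroup_le_norm)
  exact T.self x (mem_centralizer_iff.1 hx L.S.t (t_mem T)).symm fun w hw => (mem_centralizer_iff.1 hx w hw).symm

/-- An element of order dividing three moving an element only by the centre fixes it. -/
theorem fix_three {t g a : G} (ht : t * t = 1) (hg : Commute g t) (h3 : g ^ 3 = 1)
    (h : g * a * g⁻¹ = a ∨ g * a * g⁻¹ = a * t) : Commute g a := by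
  rcases h with h | h
  · exact mul_inv_eq_iff_eq_mul.1 h
  have ht1 : g * t * g⁻¹ = t := mul_inv_eq_iff_eq_mul.2 hg.eq
  have h2 : g * (g * a * g⁻¹) * g⁻¹ = a := by
    rw [h, show g * (a * t) * g⁻¹ = g * a * g⁻¹ * (g * t * g⁻¹) by group, h, ht1, mul_assoc, ht, mul_one]
  have h3' : g * a * g⁻¹ = a := by
    calc g * a * g⁻¹ = g * (g * (g * a * g⁻¹) * g⁻¹) * g⁻¹ := by rw [h2]
      _ = g ^ 3 * a * (g ^ 3)⁻¹ := by rw [pow_three]; group
      _ = a := by rw [h3, one_mul, inv_one, mul_one]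
  exact mul_inv_eq_iff_eq_mul.1 h3'

theorem cc_cube (L : Loc G) {W : Subgroup G} {c : G} (q : Quot L W c) {x : G} (hx : x ∈ zpowers c) : x ^ 3 = 1 := by
  obtain ⟨n, rfl⟩ := mem_zpowers_iff.1 hx
  rw [← zpow_natCast, ← zpow_mul, mul_comm, zpow_mul, zpow_natCast, L.K_exp c (L.mem_Kt.1 q.c_mem).1, one_zpow]

section

variable (T : CenT L W c) {D : Subgroup G} (P : Close.LinPart L W c D)
  {V : Type u} [AddCommGroup V] (S : Act W L.S.t V)


/-- The action, in the group of units. -/
noncomputable def actU (g : G) : (AddMonoid.End V)ˣ := by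
  classical
  exact if h : Commute g L.S.t then S.ρ.toHomUnits ⟨g, (commute_t L).2 h⟩ else 1

theorem actU_apply {g : G} (h : Commute g L.S.t) :
    (actU S g : AddMonoid.End V) = S.ρ ⟨g, (commute_t L).2 h⟩ := by
  rw [actU, dif_pos h]
  rfl

theorem actU_mul {g h : G} (hg : Commute g L.S.t) (hh : Commute h L.S.t) :
    actU S (g * h) = actU S g * actU S h := by
  rw [actU, actU, actU, dif_pos hg, dif_pos hh, dif_pos (hg.mul_left hh), ← map_mul]
  rfl

theorem actU_one : actU S 1 = 1 := by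
  rw [actU, dif_pos (Commute.one_left _)]
  exact map_one S.ρ.toHomUnits

theorem actU_inv {g : G} (hg : Commute g L.S.t) : actU S g⁻¹ = (actU S g)⁻¹ :=
  eq_inv_of_mul_eq_one_right (by rw [← actU_mul S hg hg.inv_left, mul_inv_cancel, actU_one])

theorem actU_comm {g h : G} (hg : Commute g L.S.t) (hh : Commute h L.S.t) :
    actU S ⁅g, h⁆ = ⁅actU S g, actU S h⁆ := by
  rw [commutatorElement_def, commutatorElement_def, actU_mul S ((hg.mul_left hh).mul_left hg.inv_left) hh.inv_left,
    actU_mul S (hg.mul_left hh) hg.inv_left, actU_mul S hg hh, actU_inv S hg, actU_inv S hh]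

include T

theorem top_comm {g : G} (hg : g ∈ topGroup L W c) : Commute g L.S.t :=
  (commute_t L).1 (Close.topGroup_le_cent T.q.mid hg)

theorem c_comm : Commute c L.S.t := (L.mem_Kt.1 T.q.c_mem).2

include S

theorem actU_mem {w : G} (hw : w ∈ W) : actU S w = 1 := by
  have h : Commute w L.S.t := (commute_t L).1 (T.q.mid.le hw)
  refine Units.ext ?_
  rw [actU_apply S h, S.ρ_mem ⟨w, _⟩ hw]
  rfl

theorem actU_move {g a : G} (hg : Commute g L.S.t) (ha : a ∈ W)
    (h : (actU S g : AddMonoid.End V) (S.π a) = S.π a) :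
    g * a * g⁻¹ = a ∨ g * a * g⁻¹ = a * L.S.t := by
  rw [actU_apply S hg, S.ρ_π _ a ha] at h
  have hm : g * a * g⁻¹ ∈ W := conj_mem ((xs_W T).norm ((commute_t L).2 hg)) ha
  exact (S.eq_iff a ha _ hm).1 h.symm

theorem scalar_fpf {x : G} (hx : x ∈ zpowers c) (h : actU S x = 1) : x = 1 := by
  by_contra hne
  have h3 := cc_cube L T.q hx
  have hcp : c ∈ zpowers x := by
    haveI : Fact (Nat.Prime 3) := ⟨Nat.prime_three⟩
    have hc3 : c ^ 3 = 1 := L.K_exp c (L.mem_Kt.1 T.q.c_mem).1
    have e : zpowers x = zpowers c := eq_of_le_of_card_ge (zpowers_le.2 hx) (by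
      rw [Nat.card_zpowers, Nat.card_zpowers, orderOf_eq_prime h3 hne]
      exact Nat.le_of_dvd (by norm_num) (orderOf_dvd_of_pow_eq_one hc3))
    rw [e]
    exact mem_zpowers c
  have hxt : Commute x L.S.t := by
    obtain ⟨n, rfl⟩ := mem_zpowers_iff.1 hx
    exact (c_comm T).zpow_left n
  rcases T.q.c_case with ⟨-, hc⟩ | ⟨-, -, hfpf⟩
  · rw [hc, zpowers_one_eq_bot, mem_bot] at hx
    exact hne hx
  have hall : ∀ a ∈ W, a = 1 ∨ a = L.S.t := fun a ha => by
    have hxa : Commute x a := fix_three L.S.t_sq hxt h3 (actU_move T S hxt ha (by rw [h]; rfl))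
    obtain ⟨n, hn⟩ := mem_zpowers_iff.1 hcp
    exact hfpf a ha (hn ▸ hxa.symm.zpow_right n)
  have hsub : (W : Set G) ⊆ {1, L.S.t} := fun a ha => hall a ha
  have h1 := (Set.ncard_le_ncard hsub (Set.toFinite _)).trans (Set.ncard_insert_le _ _)
  rw [Set.ncard_singleton, ← Nat.card_coe_set_eq] at h1
  have : Nat.card ((W : Set G) : Type _) = 512 := T.q.mid.card
  omega

include P

theorem D_comm {g : G} (hg : g ∈ D) : Commute g L.S.t := top_comm T (P.le hg)

theorem T1_comm {g : G} (hg : g ∈ P.T1) : Commute g L.S.t := top_comm T (P.T1_le hg)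

/-- Inside the part only the signaliser acts trivially. -/
theorem ker_D {d : G} (hd : d ∈ D) (h : actU S d = 1) : d ∈ W := by
  let N : Subgroup ↥D :=
    { carrier := {x | actU S (x : G) = 1}
      one_mem' := actU_one S
      mul_mem' := fun {x y} hx hy => by
        show actU S ((x : G) * y) = 1
        rw [actU_mul S (D_comm T P S x.2) (D_comm T P S y.2), hx, hy, one_mul]
      inv_mem' := fun {x} hx => by
        show actU S (x : G)⁻¹ = 1
        rw [actU_inv S (D_comm T P S x.2), hx, inv_one] }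
  haveI hN : N.Normal := ⟨fun n hn g => by
    have hn' : actU S (n : G) = 1 := hn
    show actU S ((g : G) * n * (g : G)⁻¹) = 1
    rw [actU_mul S ((D_comm T P S g.2).mul_left (D_comm T P S n.2)) (D_comm T P S g.2).inv_left,
      actU_mul S (D_comm T P S g.2) (D_comm T P S n.2), hn', mul_one, actU_inv S (D_comm T P S g.2), mul_inv_cancel]⟩
  haveI := U62Rec.Model.simple_X
  haveI : (N.map P.f).Normal := hN.map P.f P.f_surj
  have hbot : N.map P.f = ⊥ := by
    refine (inferInstance : (N.map P.f).Normal).eq_bot_or_eq_top.resolve_right fun htop => ?_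
    have hcom : ∀ x y : Cfsg.PSp 2 (ZMod 3), x * y = y * x := fun x y => by
      obtain ⟨a, ha, rfl⟩ := (htop ▸ mem_top x : x ∈ N.map P.f)
      obtain ⟨b, hb, rfl⟩ := (htop ▸ mem_top y : y ∈ N.map P.f)
      have hab : ⁅(a : G), (b : G)⁆ ∈ W := (zpowers_le.2 (t_mem T)) (S.ρ_comm ⟨a, (commute_t L).2 (D_comm T P S a.2)⟩
        ⟨b, (commute_t L).2 (D_comm T P S b.2)⟩
        (by rw [← actU_apply S (D_comm T P S a.2), (ha : actU S (a : G) = 1)]; rfl)
        (by rw [← actU_apply S (D_comm T P S b.2), (hb : actU S (b : G) = 1)]; rfl))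
      have h1 : P.f ⁅a, b⁆ = 1 := (P.f_ker _).2 hab
      rwa [map_commutatorElement, commutatorElement_eq_one_iff_mul_comm] at h1
    letI : CommGroup (Cfsg.PSp 2 (ZMod 3)) := { (inferInstance : Group (Cfsg.PSp 2 (ZMod 3))) with mul_comm := hcom }
    have h1 := IsSimpleGroup.prime_card (α := Cfsg.PSp 2 (ZMod 3))
    rw [U62Rec.Model.card_X] at h1
    norm_num at h1
  have h1 : P.f ⟨d, hd⟩ ∈ N.map P.f := mem_map_of_mem _ (show (⟨d, hd⟩ : ↥D) ∈ N from h)
  rw [hbot, mem_bot] at h1
  exact (P.f_ker _).1 h1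

theorem D_scalar {d x : G} (hd : d ∈ D) (hx : x ∈ zpowers c) :
    Commute (actU S d) (actU S x) := by
  obtain ⟨n, rfl⟩ := mem_zpowers_iff.1 hx
  have hdc : Commute (actU S d) (actU S c) := by
    rw [← commutatorElement_eq_one_iff_commute, ← actU_comm S (D_comm T P S hd) (c_comm T)]
    exact actU_mem T S (P.c_central d hd)
  have key : ∀ m : ℕ, actU S (c ^ m) = actU S c ^ m := fun m => by
    induction m with
    | zero => rw [pow_zero, pow_zero, actU_one]
    | succ m ih => rw [pow_succ, pow_succ, actU_mul S ((c_comm T).pow_left m) (c_comm T), ih]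
  obtain ⟨m, rfl | rfl⟩ := Int.eq_nat_or_neg n
  · rw [zpow_natCast, key]
    exact hdc.pow_right m
  · rw [zpow_neg, zpow_natCast, actU_inv S ((c_comm T).pow_left m), key]
    exact (hdc.pow_right m).inv_right

/-- An element of the part acting centrally on the part lies in the signaliser. -/
theorem D_center {d : G} (hd : d ∈ D) (h : ∀ e ∈ D, Commute (actU S d) (actU S e)) : d ∈ W := by
  refine (P.f_ker ⟨d, hd⟩).1 ?_
  have hc : P.f ⟨d, hd⟩ ∈ center (Cfsg.PSp 2 (ZMod 3)) := mem_center_iff.2 fun y => by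
    obtain ⟨e, rfl⟩ := P.f_surj y
    symm
    rw [← commutatorElement_eq_one_iff_mul_comm, ← map_commutatorElement, P.f_ker]
    refine ker_D T P S (⁅(⟨d, hd⟩ : ↥D), e⁆).2 ?_
    show actU S ⁅d, (e : G)⁆ = 1
    rw [actU_comm S (D_comm T P S hd) (D_comm T P S e.2), commutatorElement_eq_one_iff_commute]
    exact h e e.2
  rwa [U62Aut.center_X, mem_bot] at hc

theorem ker_T1 {x : G} (hx : x ∈ P.T1) (h : actU S x = 1) : x ∈ W := by
  obtain ⟨d, hd, cc, hcc, rfl⟩ := P.T1_cover x hx
  have hct : Commute cc L.S.t := by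
    obtain ⟨n, rfl⟩ := mem_zpowers_iff.1 hcc
    exact (c_comm T).zpow_left n
  rw [actU_mul S (D_comm T P S hd) hct] at h
  have hdW : d ∈ W := D_center T P S hd fun e he => by
    rw [mul_eq_one_iff_eq_inv.1 h]
    exact ((D_scalar T P S he hcc).inv_right).symm
  rw [actU_mem T S hdW, one_mul] at h
  rw [scalar_fpf T S hcc h, mul_one]
  exact hdW

theorem T1_conj_top {g x : G} (hg : Commute g L.S.t) (hx : x ∈ P.T1) : g * x * g⁻¹ ∈ P.T1 :=
  P.T1_conj g (T.top ▸ (commute_t L).2 hg) x hx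

theorem mem_T1_of_sup {g : G} (hg : g ∈ W ⊔ zpowers c) : g ∈ P.T1 :=
  (sup_le (P.W_le.trans P.le_T1) (zpowers_le.2 P.c_mem) : W ⊔ zpowers c ≤ P.T1) hg

/-- Only the signaliser acts trivially. -/
theorem ker_all {g : G} (hg : Commute g L.S.t) (h : actU S g = 1) : g ∈ W := by
  refine ker_T1 T P S (mem_T1_of_sup T P S (P.cent g (T.top ▸ (commute_t L).2 hg) fun d hd => ?_)) h
  refine ker_T1 T P S ?_ ?_
  · rw [commutatorElement_def]
    exact mul_mem (T1_conj_top T P S hg (P.le_T1 hd)) (inv_mem (P.le_T1 hd))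
  · rw [actU_comm S hg (D_comm T P S hd), h, commutatorElement_one_left]

/-- The part acts onto the image of a simple group. -/
noncomputable def lift : Cfsg.PSp 2 (ZMod 3) →* (AddMonoid.End V)ˣ :=
  P.f.liftOfSurjective P.f_surj
    ⟨MonoidHom.mk' (fun d : ↥D => actU S (d : G)) fun a b => actU_mul S (D_comm T P S a.2) (D_comm T P S b.2),
      fun d hd => actU_mem T S ((P.f_ker d).1 hd)⟩

theorem lift_f (d : ↥D) : lift T P S (P.f d) = actU S (d : G) := by
  simp [lift, MonoidHom.liftOfRightInverse_comp_apply]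

theorem lift_injective : Function.Injective (lift T P S) := by
  refine (injective_iff_map_eq_one _).2 fun x hx => ?_
  obtain ⟨d, rfl⟩ := P.f_surj x
  rw [lift_f] at hx
  exact (P.f_ker d).2 (ker_D T P S d.2 hx)

/-- The image of the part is normalised by the centralizer. -/
theorem lift_conj {g : G} (hg : Commute g L.S.t) (x : Cfsg.PSp 2 (ZMod 3)) :
    ∃ y, lift T P S y = actU S g * lift T P S x * (actU S g)⁻¹ := by
  let M : Subgroup (Cfsg.PSp 2 (ZMod 3)) :=
    (lift T P S).range.comap ((MulAut.conj (actU S g)).toMonoidHom.comp (lift T P S))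
  have hsplit : ∀ a ∈ P.T1, ∃ d ∈ D, ∃ cc ∈ zpowers c, actU S a = actU S d * actU S cc := fun a ha => by
    obtain ⟨d, hd, cc, hcc, rfl⟩ := P.T1_cover a ha
    refine ⟨d, hd, cc, hcc, actU_mul S (D_comm T P S hd) ?_⟩
    obtain ⟨n, rfl⟩ := mem_zpowers_iff.1 hcc
    exact (c_comm T).zpow_left n
  have hcomm : ∀ a b, ⁅a, b⁆ ∈ M := fun a b => by
    obtain ⟨a, rfl⟩ := P.f_surj a
    obtain ⟨b, rfl⟩ := P.f_surj b
    have ha := D_comm T P S a.2
    have hb := D_comm T P S b.2
    obtain ⟨d₁, h₁, x₁, hx₁, e₁⟩ := hsplit _ (T1_conj_top T P S hg (P.le_T1 a.2))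
    obtain ⟨d₂, h₂, x₂, hx₂, e₂⟩ := hsplit _ (T1_conj_top T P S hg (P.le_T1 b.2))
    refine ⟨⁅P.f ⟨d₁, h₁⟩, P.f ⟨d₂, h₂⟩⁆, ?_⟩
    show lift T P S _ = MulAut.conj (actU S g) (lift T P S ⁅P.f a, P.f b⁆)
    rw [map_commutatorElement, map_commutatorElement, lift_f, lift_f, lift_f, lift_f, map_commutatorElement]
    have hconj : ∀ {y : G}, Commute y L.S.t →
        MulAut.conj (actU S g) (actU S y) = actU S (g * y * g⁻¹) := fun {y} hy => by
      rw [MulAut.conj_apply, actU_mul S (hg.mul_left hy) hg.inv_left, actU_mul S hg hy, actU_inv S hg]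
    rw [hconj ha, hconj hb, e₁, e₂]
    have c₁₂ : Commute (actU S d₁) (actU S x₂) := D_scalar T P S h₁ hx₂
    have c₂₁ : Commute (actU S d₂) (actU S x₁) := D_scalar T P S h₂ hx₁
    have c₁₁ : Commute (actU S d₁) (actU S x₁) := D_scalar T P S h₁ hx₁
    have c₂₂ : Commute (actU S d₂) (actU S x₂) := D_scalar T P S h₂ hx₂
    have cxx : Commute (actU S x₁) (actU S x₂) := by
      obtain ⟨n, rfl⟩ := mem_zpowers_iff.1 hx₁
      obtain ⟨m, rfl⟩ := mem_zpowers_iff.1 hx₂
      have h1 := (c_comm T).zpow_left n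
      have h2 := (c_comm T).zpow_left m
      show _ * _ = _ * _
      rw [← actU_mul S h1 h2, ← actU_mul S h2 h1, ((Commute.refl c).zpow_zpow n m).eq]
    set u₁ := actU S d₁
    set u₂ := actU S d₂
    set v₁ := actU S x₁
    set v₂ := actU S x₂
    symm
    rw [commutatorElement_def, commutatorElement_def]
    calc u₁ * v₁ * (u₂ * v₂) * (u₁ * v₁)⁻¹ * (u₂ * v₂)⁻¹
        = u₁ * (v₁ * u₂) * v₂ * v₁⁻¹ * u₁⁻¹ * v₂⁻¹ * u₂⁻¹ := by group
      _ = u₁ * u₂ * (v₁ * (v₂ * v₁⁻¹)) * u₁⁻¹ * v₂⁻¹ * u₂⁻¹ := by rw [← c₂₁.eq]; group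
      _ = u₁ * u₂ * v₂ * (u₁⁻¹ * v₂⁻¹) * u₂⁻¹ := by
          rw [← mul_assoc v₁, cxx.eq, mul_inv_cancel_right]; group
      _ = u₁ * u₂ * u₁⁻¹ * u₂⁻¹ := by rw [(c₁₂.inv_inv).eq]; group
  have htop : M = ⊤ := by
    haveI := U62Rec.Model.simple_X
    have hle : commutator (Cfsg.PSp 2 (ZMod 3)) ≤ M := by
      rw [commutator_eq_closure, closure_le]
      rintro _ ⟨a, b, rfl⟩
      exact hcomm a b
    rcases (inferInstance : (commutator (Cfsg.PSp 2 (ZMod 3))).Normal).eq_bot_or_eq_top with h | h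
    · exfalso
      letI : CommGroup (Cfsg.PSp 2 (ZMod 3)) := { (inferInstance : Group (Cfsg.PSp 2 (ZMod 3))) with
        mul_comm := fun a b => commutatorElement_eq_one_iff_mul_comm.1 (by
          rw [← mem_bot, ← h]
          exact commutator_mem_commutator (mem_top a) (mem_top b)) }
      have h1 := IsSimpleGroup.prime_card (α := Cfsg.PSp 2 (ZMod 3))
      rw [U62Rec.Model.card_X] at h1
      norm_num at h1
    · exact top_le_iff.1 (h ▸ hle)
  obtain ⟨y, hy⟩ := (htop ▸ mem_top x : x ∈ M)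
  exact ⟨y, hy⟩

/-- The signaliser is the 2-core. -/
theorem core_eq : coreAt L.S.t = W := by
  have hle : W ≤ coreAt L.S.t :=
    le_coreAt (IsPGroup.of_card (n := 9) (by rw [T.q.mid.card]; norm_num)) T.q.mid.le
      (T.top.le.trans Close.topGroup_le_norm)
  refine le_antisymm (fun x hx => ?_) hle
  have hC : ∀ {g : G}, Commute g L.S.t → ∀ y ∈ coreAt L.S.t, g * y * g⁻¹ ∈ coreAt L.S.t := fun hg y hy =>
    conj_mem (coreAt_normal _ ((commute_t L).2 hg)) hy
  -- inside the part
  have h0 : ∀ d ∈ D, d ∈ coreAt L.S.t → d ∈ W := by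
    intro d hd hdc
    haveI := U62Rec.Model.simple_X
    let N : Subgroup ↥D := (coreAt L.S.t).subgroupOf D
    haveI hN : N.Normal := ⟨fun n hn g => hC (D_comm T P S g.2) n hn⟩
    haveI : (N.map P.f).Normal := hN.map P.f P.f_surj
    have h2 : IsPGroup 2 ↥(N.map P.f) := ((coreAt_isPGroup L.S.t).comap_subtype).map P.f
    have hbot : N.map P.f = ⊥ := by
      refine (inferInstance : (N.map P.f).Normal).eq_bot_or_eq_top.resolve_right fun htop => ?_
      obtain ⟨k, hk⟩ := IsPGroup.iff_card.1 h2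
      rw [htop, Subgroup.card_top, U62Rec.Model.card_X] at hk
      have : 3 ∣ 2 ^ k := hk ▸ ⟨8640, by norm_num⟩
      exact absurd (Nat.prime_three.dvd_of_dvd_pow this) (by norm_num)
    have h1 : P.f ⟨d, hd⟩ ∈ N.map P.f := mem_map_of_mem _ (show (⟨d, hd⟩ : ↥D) ∈ N from hdc)
    rw [hbot, mem_bot] at h1
    exact (P.f_ker _).1 h1
  -- inside the inner part
  have h1 : ∀ y ∈ P.T1, y ∈ coreAt L.S.t → y ∈ W := by
    intro y hy hyc
    obtain ⟨d, hd, cc, hcc, rfl⟩ := P.T1_cover y hy
    have hdt := D_comm T P S hd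
    have hct : Commute cc L.S.t := by
      obtain ⟨n, rfl⟩ := mem_zpowers_iff.1 hcc
      exact (c_comm T).zpow_left n
    have hdW : d ∈ W := D_center T P S hd fun e he => by
      have het := D_comm T P S he
      have hk : ⁅d * cc, e⁆ ∈ coreAt L.S.t := by
        rw [commutatorElement_def, mul_assoc (d * cc * e), mul_assoc (d * cc), ← mul_assoc e]
        exact mul_mem hyc (hC het _ (inv_mem hyc))
      have hA : actU S ⁅d * cc, e⁆ = actU S ⁅d, e⁆ := by
        rw [actU_comm S (hdt.mul_left hct) het, actU_comm S hdt het, actU_mul S hdt hct, commutatorElement_def,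
          commutatorElement_def, mul_inv_rev, mul_assoc (actU S d), ← (D_scalar T P S he hcc).eq]
        group
      have hm : ⁅d * cc, e⁆ * ⁅d, e⁆⁻¹ ∈ W := by
        have ht1 : ∀ {u v : G}, Commute u L.S.t → Commute v L.S.t → Commute ⁅u, v⁆ L.S.t := fun hu hv => by
          rw [commutatorElement_def]; exact ((hu.mul_left hv).mul_left hu.inv_left).mul_left hv.inv_left
        refine ker_all T P S ((ht1 (hdt.mul_left hct) het).mul_left (ht1 hdt het).inv_left) ?_
        rw [actU_mul S (ht1 (hdt.mul_left hct) het) (ht1 hdt het).inv_left, hA, actU_inv S (ht1 hdt het),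
          mul_inv_cancel]
      have hde : ⁅d, e⁆ ∈ W := by
        have hdD : ⁅d, e⁆ ∈ D := by
          rw [commutatorElement_def]; exact mul_mem (mul_mem (mul_mem hd he) (inv_mem hd)) (inv_mem he)
        refine h0 _ hdD ?_
        have := mul_mem (inv_mem (hle hm)) hk
        rwa [mul_inv_rev, inv_inv, inv_mul_cancel_right] at this
      rw [← commutatorElement_eq_one_iff_commute, ← actU_comm S hdt het]
      exact actU_mem T S hde
    have hcc1 : cc = 1 := by
      obtain ⟨k, hk⟩ := coreAt_isPGroup L.S.t ⟨cc, by simpa using mul_mem (inv_mem (hle hdW)) hyc⟩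
      have hk' : cc ^ 2 ^ k = 1 := congrArg Subtype.val hk
      exact orderOf_eq_one_iff.1 (Nat.eq_one_of_dvd_coprimes (Nat.Coprime.pow_left k (by norm_num : Nat.Coprime 2 3))
        (orderOf_dvd_of_pow_eq_one hk') (orderOf_dvd_of_pow_eq_one (cc_cube L T.q hcc)))
    rw [hcc1, mul_one]
    exact hdW
  have hxt : Commute x L.S.t := (commute_t L).1 (coreAt_le _ hx)
  refine h1 x (mem_T1_of_sup T P S (P.cent x (T.top ▸ (commute_t L).2 hxt) fun d hd => h1 _ ?_ ?_)) hx
  · rw [commutatorElement_def]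
    exact mul_mem (T1_conj_top T P S hxt (P.le_T1 hd)) (inv_mem (P.le_T1 hd))
  · rw [commutatorElement_def, mul_assoc (x * d), mul_assoc x, ← mul_assoc d]
    exact mul_mem hx (hC (D_comm T P S hd) _ (inv_mem hx))

/-- The part fixes no vector. -/
theorem no_fix {v : V} (h : ∀ x, (lift T P S x : AddMonoid.End V) v = v) : v = 0 := by
  obtain ⟨a, ha, rfl⟩ := S.surj v
  have hfix : ∀ d ∈ D, d ^ 3 = 1 → Commute d a := fun d hd hd3 => by
    refine fix_three L.S.t_sq (D_comm T P S hd) hd3 (actU_move T S (D_comm T P S hd) ha ?_)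
    rw [← lift_f T P S ⟨d, hd⟩]
    exact h _
  have hz : Commute L.S.z a := hfix _ P.z_mem (L.S.exp _ (L.S.le1 L.S.z_mem1))
  have he : Commute (L.el e3) a := hfix _ P.e3_mem (L.K_exp _ (L.el_mem_K e3))
  have h0 : S.π 1 = 0 := by simpa using S.mul 1 (one_mem W) 1 (one_mem W)
  rcases L.P_move e3 (by decide) (by decide) a (T.q.mid.fix_point a ha hz.symm) he.symm with rfl | rfl
  · exact h0
  · rw [← h0, eq_comm, S.eq_iff 1 (one_mem W) _ ha]
    exact Or.inr (one_mul _).symm

end

end Cfsg.Agent.U62Three.End
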