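import Cfsg.Agent.Lib.U62Three.End.Bridge
import Cfsg.Agent.Lib.U62Three.End.Lift
import Cfsg.Agent.Lib.U62Three.Close.CrdTop
import Cfsg.Agent.Lib.U62Aut.Components

/-!
The coordinates at the involution and at its conjugates, and a conjugate commuting with it.
-/

set_option autoImplicit false
set_option linter.unusedSectionVars false
set_option linter.style.haveILetI false
set_option maxRecDepth 20000

namespace Cfsg.Agent.U62Three.End

open Subgroup LargeExtra
open U62Aut (Agrp omP)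
open Co2Three (V4 e1 refl1)

variable {G : Type*} [Group G] [Finite G]

/-- The signaliser is the 2-core, and its elements act without moving the centre. -/
theorem core_W {L : Loc G} {W : Subgroup G} {c : G} (T : CenT L W c) : coreAt L.S.t = W := by
  obtain ⟨D, ⟨P⟩⟩ := Close.exists_linPart T.q (Close.ctl T.q)
  obtain ⟨V, iV, ⟨S⟩⟩ := exists_act (xs_W T) T.q.mid.card
  exact core_eq T P S

/-- The coordinates. -/
theorem exists_crdT {L : Loc G} {W : Subgroup G} {c : G} (T : CenT L W c) : Nonempty (CrdT L.S.t) := by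
  obtain ⟨D, ⟨K⟩⟩ := Close.exists_topCrd T.q (Close.ctl T.q)
  have hW := core_W T
  have hmem : ∀ {g : G}, Commute L.S.t g → g ∈ topGroup L W c := fun hg =>
    T.top ▸ (commute_t L).2 hg.symm
  have hcT : c ∈ topGroup L W c := Close.Kt_le_top T.q T.q.c_mem
  refine ⟨{
    xs := hW.symm ▸ xs_W T, card := hW.symm ▸ T.q.mid.card, nv := K.nv
    nv_mul := fun a ha b hb => K.nv_mul a (hW ▸ ha) b (hW ▸ hb)
    nv_surj := fun v => (K.nv_surj v).elim fun a h => ⟨a, hW.symm ▸ h.1, h.2⟩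
    nv_eq := fun a ha b hb => K.nv_eq a (hW ▸ ha) b (hW ▸ hb)
    nv_sq := fun a ha => K.nv_sq a (hW ▸ ha)
    act := K.im
    act_mul := fun g h hg hh => K.im_mul g (hmem hg) h (hmem hh)
    act_one := fun g hg => by rw [hW]; exact K.im_ker g (hmem hg)
    act_conj := fun g hg a ha => K.im_conj g (hmem hg) a (hW ▸ ha)
    act_mem := fun g hg => ?_
    inner := fun σ hσ => ?_
    exact := fun g hg σ k h => ?_ }⟩
  · obtain ⟨a, ha, k, hk⟩ := K.im_semi g (hmem hg)
    exact ⟨⟨a, ha⟩, ⟨k % 3, Nat.mod_lt _ (by norm_num)⟩, hk.trans (congrArg (a * ·) (omP_pow_mod k))⟩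
  · obtain ⟨d, hd, e⟩ := K.im_surj σ hσ
    exact ⟨d, (top_comm T (K.part.le hd)).symm, e⟩
  · by_cases hc : c = 1
    · obtain ⟨hσ, -⟩ := decomp_unique (σ := ⟨K.im g, K.im_agrp hc g (hmem hg)⟩) (τ := σ) (k := 0) (l := k)
        (by rw [pow_zero, mul_one]; exact h)
      exact ⟨g, hg, congrArg Subtype.val hσ⟩
    have hpow : ∀ n : ℕ, ∃ x ∈ topGroup L W c, K.im x = omP ^ n := fun n => by
      have hone : K.im 1 = 1 := (K.im_ker 1 (one_mem _)).2 (one_mem _)
      have hcn : ∀ m : ℕ, K.im (c ^ m) = K.im c ^ m := fun m => by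
        induction m with
        | zero => rw [pow_zero, pow_zero, hone]
        | succ m ih => rw [pow_succ, pow_succ, K.im_mul _ (pow_mem hcT m) _ hcT, ih]
      rcases K.im_c hc with e | e
      · exact ⟨c ^ n, pow_mem hcT n, by rw [hcn, e]⟩
      · refine ⟨c ^ (2 * n), pow_mem hcT _, ?_⟩
        rw [hcn, e, ← pow_mul, omP_pow_mod, omP_pow_mod n]
        congr 1
        omega
    obtain ⟨x, hx, ex⟩ := hpow (2 * k)
    refine ⟨g * x, hg.mul_right (top_comm T hx).symm, ?_⟩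
    rw [K.im_mul g (hmem hg) x hx, h, ex, mul_assoc, ← pow_add, omP_pow_eq_one.2 ⟨k, by ring⟩, mul_one]

/-- The coordinates at a conjugate. -/
noncomputable def CrdT.conjugate {z : G} (K : CrdT z) (g : G) : CrdT (g * z * g⁻¹) := by
  have hm : ∀ {a : G}, a ∈ coreAt (g * z * g⁻¹) → g⁻¹ * a * g ∈ coreAt z := fun ha => by
    rw [coreAt_conj] at ha
    exact mem_conjMap.1 ha
  have hz : ∀ {a : G}, Commute (g * z * g⁻¹) a → Commute z (g⁻¹ * a * g) := fun {a} ha => by
    show z * (g⁻¹ * a * g) = g⁻¹ * a * g * z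
    calc z * (g⁻¹ * a * g) = g⁻¹ * (g * z * g⁻¹ * a) * g := by group
      _ = g⁻¹ * (a * (g * z * g⁻¹)) * g := by rw [ha.eq]
      _ = g⁻¹ * a * g * z := by group
  have hz' : ∀ {a : G}, Commute z a → Commute (g * z * g⁻¹) (g * a * g⁻¹) := fun ha =>
    ha.map (MulAut.conj g).toMonoidHom
  exact
  { xs := coreAt_conj g z ▸ K.xs.conj g
    card := by
      rw [coreAt_conj, card_map_of_injective (MulAut.conj g).injective, K.card]
    nv := fun a => K.nv (g⁻¹ * a * g)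
    nv_mul := fun a ha b hb => by
      rw [← K.nv_mul _ (hm ha) _ (hm hb)]
      congr 1
      group
    nv_surj := fun v => by
      obtain ⟨a, ha, rfl⟩ := K.nv_surj v
      refine ⟨g * a * g⁻¹, by rw [coreAt_conj]; exact conj_mem_conjMap ha, ?_⟩
      congr 1
      group
    nv_eq := fun a ha b hb => by
      rw [K.nv_eq _ (hm ha) _ (hm hb), show g⁻¹ * a * g * z = g⁻¹ * (a * (g * z * g⁻¹)) * g by group]
      exact or_congr ⟨fun h => mul_left_cancel (mul_right_cancel h), fun h => by rw [h]⟩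
        ⟨fun h => mul_left_cancel (mul_right_cancel h), fun h => by rw [h]⟩
    nv_sq := fun a ha => by
      rw [← K.nv_sq _ (hm ha), show g⁻¹ * a * g * (g⁻¹ * a * g) = g⁻¹ * (a * a) * g⁻¹⁻¹ by group, conj_eq_one_iff]
    act := fun a => K.act (g⁻¹ * a * g)
    act_mul := fun a b ha hb => by
      rw [← K.act_mul _ _ (hz ha) (hz hb)]
      congr 1
      group
    act_one := fun a ha => by rw [K.act_one _ (hz ha), coreAt_conj, mem_conjMap]
    act_conj := fun a ha b hb => by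
      rw [← K.act_conj _ (hz ha) _ (hm hb)]
      congr 1
      group
    act_mem := fun a ha => K.act_mem _ (hz ha)
    inner := fun σ hσ => by
      obtain ⟨a, ha, rfl⟩ := K.inner σ hσ
      exact ⟨g * a * g⁻¹, hz' ha, by congr 1; group⟩
    exact := fun a ha σ k h => by
      obtain ⟨b, hb, e⟩ := K.exact _ (hz ha) σ k h
      exact ⟨g * b * g⁻¹, hz' hb, by rw [← e]; congr 1; group⟩ }

/-- The matrix of a rotation moving the reflection. -/
def swM : Matrix (Fin 4) (Fin 4) (ZMod 3) := trM 1 0 * tr3M 1 0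

/-- Its inverse. -/
def swI : Matrix (Fin 4) (Fin 4) (ZMod 3) := tr3M 2 0 * trM 2 0

theorem sw_facts : ∀ v : V4, swM.mulVec (swI.mulVec v) = v ∧
    refl1 (swM.mulVec (refl1 (swI.mulVec (refl1 (swM.mulVec (refl1 (swI.mulVec v))))))) = v := by decide +kernel

theorem sw_move : refl1 (swM.mulVec (refl1 (swI.mulVec e1))) ≠ e1 := by decide +kernel

/-- A second conjugate commutes with the involution. -/
theorem exists_mate (L : Loc G) :
    ∃ k : G, Commute (k * L.S.t * k⁻¹) L.S.t ∧ k * L.S.t * k⁻¹ ≠ L.S.t := by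
  obtain ⟨g, hg⟩ := L.jd.rot swM ((isRot_tr 1 0).mul (isRot_tr3 1 0))
  have hgi : ∀ v, g⁻¹ * L.el v * g = L.el (swI.mulVec v) := fun v => by
    conv_lhs => rw [← (sw_facts v).1, ← hg]
    group
  obtain ⟨t₂, ht₂⟩ : ∃ t₂, t₂ = g * L.S.t * g⁻¹ := ⟨_, rfl⟩
  have h2 : t₂ * t₂ = 1 := by
    rw [ht₂, show g * L.S.t * g⁻¹ * (g * L.S.t * g⁻¹) = g * (L.S.t * L.S.t) * g⁻¹ by group, L.S.t_sq, mul_one,
      mul_inv_cancel]
  obtain ⟨r, hr⟩ : ∃ r, r = L.S.t * t₂ := ⟨_, rfl⟩
  have hact : ∀ v, r * L.el v * r⁻¹ = L.el (refl1 (swM.mulVec (refl1 (swI.mulVec v)))) := fun v => by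
    rw [← L.t_act, ← hg, ← L.t_act, ← hgi, hr, ht₂]
    group
  have hr2 : r ^ 2 ∈ L.K := by
    refine (L.mem_K _).2 fun v => mul_inv_eq_iff_eq_mul.1 ?_
    rw [show r ^ 2 * L.el v * (r ^ 2)⁻¹ = r * (r * L.el v * r⁻¹) * r⁻¹ by rw [pow_two]; group, hact, hact,
      (sw_facts v).2]
  have hr6 : (r ^ 3) * (r ^ 3) = 1 := by
    rw [← pow_add, show 3 + 3 = 2 * 3 by norm_num, pow_mul, L.K_exp _ hr2]
  have hne : r ^ 3 ≠ 1 := fun e => by
    have h1 : r = (r ^ 2)⁻¹ := eq_inv_of_mul_eq_one_left (by rw [← pow_succ']; exact e)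
    have h3 : Commute r (L.el e1) := h1 ▸ ((L.mem_K _).1 hr2 e1).inv_left
    have h4 := hact e1
    rw [mul_inv_eq_iff_eq_mul.2 h3.eq] at h4
    exact sw_move (L.jd.el_inj h4).symm
  have hti : L.S.t⁻¹ = L.S.t := inv_eq_of_mul_eq_one_right L.S.t_sq
  have hinv : L.S.t * r * L.S.t⁻¹ = r⁻¹ := by
    rw [hr, mul_inv_rev, hti, inv_eq_of_mul_eq_one_right h2, ← mul_assoc, L.S.t_sq, one_mul]
  have hcomm : Commute L.S.t (r ^ 3) := mul_inv_eq_iff_eq_mul.1 (by
    rw [← conj_pow, hinv, inv_pow]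
    exact inv_eq_of_mul_eq_one_right hr6)
  have e := (U62Aut.Setting.dihedral_conj (y := t₂) L.S.t_sq 1).2 h2
  rw [← hr, show 2 * 1 + 1 = 3 from rfl, pow_one] at e
  refine ⟨r⁻¹ * g, ?_⟩
  have e2 : r⁻¹ * g * L.S.t * (r⁻¹ * g)⁻¹ = L.S.t * r ^ 3 := by rw [e, ht₂]; group
  rw [e2]
  exact ⟨((Commute.refl L.S.t).mul_right hcomm).symm, fun h => hne (mul_eq_left.1 h)⟩

end Cfsg.Agent.U62Three.End
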