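import Cfsg.Agent.Lib.U62Three.End.Crd
import Cfsg.Agent.Lib.U62Aut.End
import Cfsg.Agent.Lib.Fi23Plus.FStar
import Cfsg.Agent.S0283

/-!
The class of the involution generates the unitary group in dimension six over four elements, which is the
generalised Fitting subgroup, with trivial centralizer.
-/

set_option autoImplicit false
set_option linter.unusedSectionVars false
set_option linter.style.haveILetI false
set_option maxRecDepth 20000

namespace Cfsg.Agent.U62Three

open Subgroup LargeExtra End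
open RigidGraph.He (K4)

variable {G : Type*} [Group G] [Finite G] {L : Loc G} {W : Subgroup G} {c : G}

theorem CenT.card_cen (T : CenT L W c) :
    Nat.card ↥(centralizer ({L.S.t} : Set G)) ≤ 512 * 155520 := by
  obtain ⟨d, hd, hdvd⟩ := Close.card_top T.q (Close.ctl T.q)
  rw [T.top, hd]
  have h3 : orderOf c ≤ 3 :=
    Nat.le_of_dvd (by norm_num) (orderOf_dvd_of_pow_eq_one (L.K_exp c (L.mem_Kt.1 T.q.c_mem).1))
  have h5 : d ≤ 51840 := Nat.le_of_dvd (by norm_num) hdvd
  calc 512 * (orderOf c * d) ≤ 512 * (3 * 51840) := Nat.mul_le_mul_left _ (Nat.mul_le_mul h3 h5)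
    _ = 512 * 155520 := by norm_num

/-- The conclusion at the centralizer of the involution. -/
theorem CenT.conclusion (T : CenT L W c) :
    (∃ (F : Type) (_ : Field F) (_ : Fintype F), Fintype.card F = 4 ∧
      Nonempty (↥(Cfsg.generalizedFittingSubgroup G) ≃* Cfsg.PSU 6 F 2)) ∧
      centralizer ((Cfsg.generalizedFittingSubgroup G : Subgroup G) : Set G) = ⊥ := by
  classical
  obtain ⟨K⟩ := exists_crdT T
  let D : Set G := {x | ∃ g : G, g * L.S.t * g⁻¹ = x}
  have hloc : ∀ d ∈ D, Nonempty (U62Aut.Loc U62Aut.geo d) := by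
    rintro _ ⟨g, rfl⟩
    exact ⟨(K.conjugate g).loc⟩
  let Fm : U62Aut.Fam (G := G) U62Aut.geo :=
    { D := D
      conj_mem := by
        rintro g _ ⟨k, rfl⟩
        exact ⟨g * k, by group⟩
      isConj := by
        rintro _ ⟨g, rfl⟩ _ ⟨k, rfl⟩
        exact ⟨k * g⁻¹, by group⟩
      loc := fun d hd => (hloc d hd).some }
  have hnwc : ∀ d ∈ Fm.D, ∃ e, e ∈ U62Aut.nbr Fm.D d := by
    rintro _ ⟨g, rfl⟩
    obtain ⟨k, hk, hne⟩ := exists_mate L
    exact ⟨g * (k * L.S.t * k⁻¹) * g⁻¹, ⟨g * k, by group⟩, fun h => hne (mul_left_cancel (mul_right_cancel h)),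
      hk.symm.map (MulAut.conj g).toMonoidHom⟩
  obtain ⟨S, hS⟩ : ∃ S, S = Fm.setting hnwc := ⟨_, rfl⟩
  have hSD : S.D = D := hS ▸ rfl
  have htD : L.S.t ∈ S.D := hSD.symm ▸ ⟨1, by group⟩
  have hG : Nat.card G ≤ 693 * 512 * 155520 := by
    have horb : MulAction.orbit (ConjAct G) L.S.t = S.D := by
      rw [hSD]
      ext y
      rw [MulAction.mem_orbit_iff]
      constructor
      · rintro ⟨g, rfl⟩
        exact ⟨ConjAct.ofConjAct g, by rw [ConjAct.smul_def]⟩
      · rintro ⟨g, rfl⟩
        exact ⟨ConjAct.toConjAct g, by rw [ConjAct.smul_def, ConjAct.ofConjAct_toConjAct]⟩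
    have h := MulAction.index_stabilizer (ConjAct G) L.S.t
    rw [horb, U62Aut.Setting.card_D htD] at h
    have hst : Nat.card (MulAction.stabilizer (ConjAct G) L.S.t) = Nat.card ↥(centralizer ({L.S.t} : Set G)) :=
      Nat.card_congr
        { toFun := fun g => ⟨ConjAct.ofConjAct (g : ConjAct G), mem_centralizer_one.2 (mul_inv_eq_iff_eq_mul.1
            (by rw [← ConjAct.smul_def]; exact g.2))⟩
          invFun := fun g => ⟨ConjAct.toConjAct (g : G), by
            rw [MulAction.mem_stabilizer_iff, ConjAct.smul_def, ConjAct.ofConjAct_toConjAct]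
            exact mul_inv_eq_iff_eq_mul.2 (mem_centralizer_one.1 g.2)⟩
          left_inv := fun g => rfl
          right_inv := fun g => rfl }
    have h2 := (MulAction.stabilizer (ConjAct G) L.S.t).card_mul_index
    rw [h, hst] at h2
    rw [show Nat.card G = Nat.card (ConjAct G) from Nat.card_congr ConjAct.toConjAct.toEquiv, ← h2]
    have := T.card_cen
    omega
  obtain ⟨⟨φ⟩, hcent⟩ := U62Aut.Setting.gen_psu (S := S) ⟨L.S.t, htD⟩
    (fun d _ U hU hUC hUn => hS ▸ le_coreAt hU hUC hUn) hG
  haveI : Finite S.gen := inferInstance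
  haveI hsim : IsSimpleGroup S.gen := by
    haveI := S0283.result (F := K4) (q := 2) (by decide) 6 (by norm_num) (by norm_num)
    exact φ.isSimpleGroup_congr.2 inferInstance
  haveI : S.gen.Normal := U62Aut.Setting.gen_normal S
  have hnc : ∃ x y : S.gen, ¬ Commute x y := by
    by_contra h
    push Not at h
    letI : CommGroup S.gen := { (inferInstance : Group S.gen) with mul_comm := h }
    have hp := IsSimpleGroup.prime_card (α := S.gen)
    rw [Nat.card_congr φ.toEquiv, FischerPresented.U62.card_psu] at hp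
    norm_num at hp
  have hF := Fi23Plus.fstar_eq_of_simple hsim hnc hcent
  refine ⟨⟨K4, inferInstance, inferInstance, RigidGraph.He.K4.card_K4, ⟨?_⟩⟩, by rw [hF]; exact hcent⟩
  exact (MulEquiv.subgroupCongr hF).trans φ

end Cfsg.Agent.U62Three
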