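import Cfsg.Agent.Lib.U62Three.End.Coord

/-!
Facts in coordinates with scalars: the vectors, the points and the preimages of the lines.
-/

set_option autoImplicit false
set_option linter.unusedSectionVars false
set_option linter.style.haveILetI false
set_option maxRecDepth 20000

namespace Cfsg.Agent.U62Three.End

open Subgroup LargeExtra U62Rec.Model Cfsg.Agent.PermCert U62Aut
open scoped commutatorElement

namespace CrdT

variable {G : Type*} [Group G] [Finite G] {z : G} (K : CrdT z)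

include K

theorem conj_core {g : G} (hg : Commute z g) {a : G} (ha : a ∈ coreAt z) : g * a * g⁻¹ ∈ coreAt z :=
  conj_mem (coreAt_normal z (mem_centralizer_one.2 hg.eq.symm)) ha

theorem comm_mem {g : G} (hg : Commute z g) {a : G} (ha : a ∈ coreAt z) : ⁅g, a⁆ ∈ coreAt z := by
  rw [commutatorElement_def]
  exact mul_mem (K.conj_core hg ha) (inv_mem ha)

theorem nv_one : K.nv 1 = zeroV := by
  have := K.nv_mul 1 (one_mem _) 1 (one_mem _)
  rw [one_mul] at this
  rw [this, xorV_self]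

theorem nv_z : K.nv z = zeroV := by
  rw [← K.nv_one]
  exact ((K.nv_eq 1 (one_mem _) z K.xs.mem).2 (Or.inr (one_mul z).symm)).symm

theorem nv_zero {a : G} (ha : a ∈ coreAt z) : K.nv a = zeroV ↔ a ∈ zpowers z := by
  rw [K.xs.mem_zpowers_iff, ← K.nv_one, eq_comm, K.nv_eq 1 (one_mem _) a ha, one_mul]

theorem nv_inv {a : G} (ha : a ∈ coreAt z) : K.nv a⁻¹ = K.nv a := by
  have h := K.nv_mul a⁻¹ (inv_mem ha) a ha
  rw [inv_mul_cancel, K.nv_one] at h
  exact xorV_eq_zero h.symm

theorem nv_comm {g : G} (hg : Commute z g) {a : G} (ha : a ∈ coreAt z) :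
    K.nv ⁅g, a⁆ = xorV (K.nv a) (K.act g (K.nv a)) := by
  rw [commutatorElement_def, K.nv_mul _ (K.conj_core hg ha) _ (inv_mem ha), K.nv_inv ha, K.act_conj g hg a ha,
    xorV_comm]

theorem comm_zpowers {g : G} (hg : Commute z g) {a : G} (ha : a ∈ coreAt z) :
    ⁅g, a⁆ ∈ zpowers z ↔ K.act g (K.nv a) = K.nv a := by
  rw [← K.nv_zero (K.comm_mem hg ha), K.nv_comm hg ha]
  exact ⟨fun h => (xorV_eq_zero h).symm, fun h => by rw [h, xorV_self]⟩

theorem conj_z {g : G} (hg : Commute z g) {a : G} (ha : a ∈ coreAt z) (h : K.act g (K.nv a) = K.nv a) :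
    g * a * g⁻¹ = a ∨ g * a * g⁻¹ = a * z := by
  rw [← K.act_conj g hg a ha] at h
  exact (K.nv_eq a ha _ (K.conj_core hg ha)).1 h.symm

theorem act_fix {g : G} (hg : Commute z g) {s : G} (hs : s ∈ coreAt z) (hgs : Commute s g) :
    K.act g (K.nv s) = K.nv s := by
  rw [← K.act_conj g hg s hs, ← hgs.eq, mul_inv_cancel_right]

theorem act_comm_core {g : G} (hg : Commute z g) (h : K.act g = 1) : g ∈ coreAt z := (K.act_one g hg).1 h

theorem pol_comm {a b : G} (ha : a ∈ coreAt z) (hb : b ∈ coreAt z) :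
    Commute a b ↔ polC (K.nv a) (K.nv b) = 0 := by
  have hX := K.xs.toXSub
  have hab := mul_mem ha hb
  have hq : ∀ v : Vec, q0 v = 0 ∨ q0 v = 1 := by decide +kernel
  have hval : ∀ {c : G}, c ∈ coreAt z → (c * c = 1 ∧ q0 (K.nv c) = 0) ∨ (c * c = z ∧ q0 (K.nv c) = 1) := by
    intro c hc
    rcases hX.sq_cases hc with h | h
    · exact Or.inl ⟨h, (K.nv_sq c hc).1 h⟩
    · refine Or.inr ⟨h, (hq _).resolve_left fun e => hX.ne_one ?_⟩
      rw [← h]; exact (K.nv_sq c hc).2 e
  have hp : polC (K.nv a) (K.nv b) = Nat.xor (q0 (K.nv (a * b))) (Nat.xor (q0 (K.nv a)) (q0 (K.nv b))) := by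
    rw [K.nv_mul a ha b hb]; rfl
  have hrel : a * b * (a * b) = ⁅a, b⁆ * (b * a * (a * b)) := by rw [commutatorElement_def]; group
  have hsq : b * a * (a * b) = (a * a) * (b * b) := by
    rw [show b * a * (a * b) = b * (a * a) * b from by group]
    rcases hX.sq_cases ha with h | h <;> rw [h]
    · simp
    · rw [hX.comm hb, mul_assoc]
  rw [hsq] at hrel
  have hne := hX.ne_one
  have hiff : Commute a b ↔ ⁅a, b⁆ = 1 := commutatorElement_eq_one_iff_mul_comm.symm
  rw [hiff, hp]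
  rcases hX.comm_cases ha hb with hc | hc <;> rcases hval hab with ⟨hs, e⟩ | ⟨hs, e⟩ <;>
    rcases hval ha with ⟨hsa, ea⟩ | ⟨hsa, ea⟩ <;> rcases hval hb with ⟨hsb, eb⟩ | ⟨hsb, eb⟩ <;>
    (rw [hs, hc, hsa, hsb] at hrel; rw [hc, e, ea, eb]) <;>
    simp [hne, hne.symm, hX.sq] at hrel ⊢

theorem pre_ncard (S : Set Vec) : {a | a ∈ coreAt z ∧ K.nv a ∈ S}.ncard = 2 * S.ncard := by
  classical
  induction S, Set.toFinite S using Set.Finite.induction_on with
  | empty => simp
  | @insert v S hv hS ih =>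
    obtain ⟨b, hb, rfl⟩ := K.nv_surj v
    have e : {a | a ∈ coreAt z ∧ K.nv a ∈ insert (K.nv b) S} = {b, b * z} ∪ {a | a ∈ coreAt z ∧ K.nv a ∈ S} := by
      ext a
      simp only [Set.mem_ofPred_eq, Set.mem_insert_iff, Set.mem_union, Set.mem_singleton_iff]
      constructor
      · rintro ⟨ha, h | h⟩
        · exact Or.inl ((K.nv_eq b hb a ha).1 h.symm)
        · exact Or.inr ⟨ha, h⟩
      · rintro (h | ⟨ha, h⟩)
        · have ha : a ∈ coreAt z := by rcases h with rfl | rfl; exacts [hb, mul_mem hb K.xs.mem]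
          exact ⟨ha, Or.inl ((K.nv_eq b hb a ha).2 h).symm⟩
        · exact ⟨ha, Or.inr h⟩
    rw [e, Set.ncard_union_eq ?_ (Set.toFinite _) (Set.toFinite _), Set.ncard_pair (K.xs.toXSub.ne_mul_z b), ih,
      Set.ncard_insert_of_notMem hv hS]
    · ring
    · rw [Set.disjoint_left]
      rintro a ha ⟨ha', h⟩
      exact hv ((K.nv_eq b hb a ha').2 ha ▸ h)

/-- The action on the points. -/
noncomputable def perm (g : G) : Equiv.Perm Pt := aHom (K.prj g)

theorem perm_mul {g h : G} (hg : Commute z g) (hh : Commute z h) : K.perm (g * h) = K.perm g * K.perm h := by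
  rw [perm, perm, perm, K.prj_mul hg hh, map_mul]

theorem perm_inj {g h : G} (e : K.perm g = K.perm h) : K.prj g = K.prj h := aHom_injective e

theorem perm_one_iff {g : G} : K.perm g = 1 ↔ K.prj g = 1 := map_eq_one_iff aHom aHom_injective

theorem inLine_act {g : G} (hg : Commute z g) {p : Pt} {v : Vec} (h : InLine p v) :
    InLine (K.perm g p) (K.act g v) := by
  rw [K.act_eq hg, Equiv.Perm.mul_apply]
  exact inLine_mapA (omP_pow_line _ h)

/-- The preimage of a line. -/
def rad (p : Pt) : Subgroup G where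
  carrier := {a | a ∈ coreAt z ∧ InLine p (K.nv a)}
  one_mem' := ⟨one_mem _, Or.inl K.nv_one⟩
  mul_mem' := fun {a b} ha hb => ⟨mul_mem ha.1 hb.1, by rw [K.nv_mul a ha.1 b hb.1]; exact inLine_xor ha.2 hb.2⟩
  inv_mem' := fun {a} ha => ⟨inv_mem ha.1, by rw [K.nv_inv ha.1]; exact ha.2⟩

theorem rad_nv_ne {s : G} (hs : s ∈ coreAt z) (h1 : s ≠ 1) (hz : s ≠ z) : K.nv s ≠ zeroV := fun h =>
  (K.xs.mem_zpowers_iff.1 ((K.nv_zero hs).1 h)).elim h1 hz

theorem centralizer_rad (p : Pt) {a : G} (ha : a ∈ coreAt z) :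
    (∀ r ∈ K.rad p, Commute a r) ↔ herm (K.nv a) (repC p) = 0 := by
  constructor
  · intro h
    obtain ⟨b, hb, e⟩ := K.nv_surj (repV p)
    obtain ⟨c, hc, e'⟩ := K.nv_surj (omV (repV p))
    refine ((perp_facts p).1 _).2 ⟨?_, ?_⟩
    · rw [← e, ← K.pol_comm ha hb]
      exact h b ⟨hb, by rw [e]; exact Or.inr (Or.inl rfl)⟩
    · rw [← e', ← K.pol_comm ha hc]
      exact h c ⟨hc, by rw [e']; exact Or.inr (Or.inr (Or.inl rfl))⟩
  · exact fun h r hr => (K.pol_comm ha hr.1).2 (pol_xor hr.2 h)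

theorem shift_rad {e : G} (he : Commute z e) (h1 : K.prj e = 1) (p : Pt) : (K.shift e he).rad p = K.rad p := by
  have key : ∀ a ∈ coreAt z, InLine p (K.nv a) → InLine p (K.nv (e⁻¹ * a * e)) := fun a ha h => by
    have h2 := K.inLine_act he.inv_right h
    rw [perm, K.prj_inv he, h1, inv_one, map_one, Equiv.Perm.one_apply, ← K.act_conj _ he.inv_right a ha,
      inv_inv] at h2
    exact h2
  ext a
  refine and_congr_right fun ha => ⟨fun h => ?_, key a ha⟩
  have hc : e⁻¹ * a * e ∈ coreAt z := by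
    have := K.conj_core he.inv_right ha
    rwa [inv_inv] at this
  have h2 := K.inLine_act he (v := K.nv (e⁻¹ * a * e)) h
  rw [perm, h1, map_one, Equiv.Perm.one_apply, ← K.act_conj _ he _ hc,
    show e * (e⁻¹ * a * e) * e⁻¹ = a by group] at h2
  exact h2

theorem shift_perm {e : G} (he : Commute z e) (h1 : K.prj e = 1) {g : G} (hg : Commute z g) :
    (K.shift e he).perm g = K.perm g := by rw [perm, perm, K.shift_prj he h1 hg]

end CrdT

end Cfsg.Agent.U62Three.End
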